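import Cfsg.Agent.H84.Ward.TSection

/-!
# The integer rows on the 2-section of `t`

`LSide` is what is needed about `L`: a family of functions vanishing at even order, their Gram matrix,
their inner products with `1`, a combination equal to the regular character and the involution-pair sums.
`TData.rows` turns it into integer vectors on the irreducible characters of `G`.
-/

namespace Cfsg.Agent.H84.Ward

open Cfsg.Agent.CharBasic Cfsg.Agent.CharInduce
open scoped ComplexConjugate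

universe u v w

/-- The data on the `L` side. -/
structure LSide (L : Type v) [Group L] [Fintype L] (ι : Type w) [Fintype ι] where
  θ : ι → L → ℂ
  van : ∀ i, VanEven (θ i)
  g : ι → ι → ℤ
  hg : ∀ i j, Cfsg.classInner (θ i) (θ j) = (g i j : ℂ)
  one : ι → ℤ
  hone : ∀ i, Cfsg.classInner (θ i) (fun _ => (1 : ℂ)) = (one i : ℂ)
  c : ι → ℤ
  reg : ∀ a : L, a ≠ 1 → ∑ i, (c i : ℂ) * θ i a = 0
  reg1 : ∑ i, (c i : ℂ) * θ i 1 = (Nat.card L : ℂ)
  S : ι → ℤ
  hS : ∀ i, ∑ a : L, θ i a * (Nat.card (TData.Pairs (tu, a)) : ℂ) = (S i : ℂ)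

/-- The pair sums from the numbers of elements of order at most two inverting `a`. -/
theorem sum_pairs {L : Type v} [Group L] [Fintype L] {θ : L → ℂ} (h : VanEven θ) :
    ∑ a : L, θ a * (Nat.card (TData.Pairs (tu, a)) : ℂ) =
      2 * ∑ a : L, θ a * (Nat.card (TData.Inv2 a) : ℂ) - 2 * θ 1 := by
  classical
  have h1 : Nat.card (TData.Inv2 (1 : L)) = Nat.card {r : L // r * r = 1} :=
    Nat.card_congr (Equiv.subtypeEquivRight fun r => by simp)
  rw [← Finset.add_sum_erase _ _ (Finset.mem_univ (1 : L)),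
    ← Finset.add_sum_erase _ (fun a : L => θ a * (Nat.card (TData.Inv2 a) : ℂ))
      (Finset.mem_univ (1 : L)), mul_add]
  have h2 : ((Nat.card (TData.Pairs ((tu, 1) : Multiplicative (ZMod 2) × L)) : ℤ) : ℂ) =
      2 * ((Nat.card {r : L // r * r = 1} : ℤ) : ℂ) - 2 := by
    rw [TData.card_pairs_one]; push_cast; ring
  have h3 : ∑ a ∈ Finset.univ.erase (1 : L), θ a * (Nat.card (TData.Pairs (tu, a)) : ℂ) =
      2 * ∑ a ∈ Finset.univ.erase (1 : L), θ a * (Nat.card (TData.Inv2 a) : ℂ) := by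
    rw [Finset.mul_sum]
    refine Finset.sum_congr rfl fun a ha => ?_
    by_cases ho : Odd (orderOf a)
    · rw [TData.card_pairs_eq ho (Finset.ne_of_mem_erase ha)]; push_cast; ring
    · rw [h.even a ho]; ring
  rw [h3, h1]
  push_cast at h2
  rw [h2]
  ring

namespace TData

variable {G : Type u} {L : Type v} [Group G] [Group L] [Fintype G] [Fintype L]
  {ι : Type w} [Fintype ι] (D : TData G L) (X : LSide L ι)

/-- The vector of `θ i`. -/
noncomputable def d (i : ι) (χ : Cfsg.IrrCharacter G) : ℤ := D.coef (X.van i) χ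

/-- The value at `t`. -/
noncomputable def val (χ : Cfsg.IrrCharacter G) : ℤ := ∑ i, X.c i * D.d X i χ

theorem d_spec (i : ι) (χ : Cfsg.IrrCharacter G) :
    Cfsg.classInner (D.F (X.θ i)) (χ : G → ℂ) = (D.d X i χ : ℂ) := D.coef_spec _ χ

theorem apply_val (χ : Cfsg.IrrCharacter G) : (χ : G → ℂ) D.t = (D.val X χ : ℂ) :=
  D.apply_t X.θ X.van X.c X.reg X.reg1 χ

open scoped Classical in
theorem d_gram (i j : ι) :
    ∑ χ : Cfsg.IrrCharacter G, D.d X i χ * D.d X j χ = 2 * X.g i j :=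
  D.gram (X.van i) (X.van j) (X.hg i j)

open scoped Classical in
theorem d_deg (i : ι) :
    ∑ χ : Cfsg.IrrCharacter G, D.d X i χ * (Cfsg.charDegree (χ : G → ℂ) : ℤ) = 0 :=
  D.deg_sum (X.van i)

theorem d_triv (i : ι) : D.d X i (H36.SelfCentral.triv G) = X.one i :=
  D.coef_triv (X.van i) (X.hone i)

theorem val_triv : D.val X (H36.SelfCentral.triv G) = 1 := by
  have h := D.apply_val X (H36.SelfCentral.triv G)
  have h2 : ((1 : ℤ) : ℂ) = (D.val X (H36.SelfCentral.triv G) : ℂ) := by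
    rw [← h, Int.cast_one]; rfl
  exact_mod_cast h2.symm

open scoped Classical in
theorem d_structure (hconj : ∀ u : G, u * u = 1 → u ≠ 1 → IsConj D.t u) (i : ι) :
    (Nat.card G : ℚ) * ∑ χ : Cfsg.IrrCharacter G,
      (D.d X i χ : ℚ) * (D.val X χ : ℚ) ^ 2 / (Cfsg.charDegree (χ : G → ℂ) : ℚ) =
        4 * (Nat.card L : ℚ) * X.S i :=
  D.structure_eq (X.van i) hconj (D.val X) (D.apply_val X) (X.S i) (X.hS i)

open scoped Classical in
/-- All the hypotheses of the combinatorial step at once. -/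
theorem rows (hconj : ∀ u : G, u * u = 1 → u ≠ 1 → IsConj D.t u) :
    ∃ (o : Cfsg.IrrCharacter G) (deg : Cfsg.IrrCharacter G → ℕ)
      (d : ι → Cfsg.IrrCharacter G → ℤ) (v : Cfsg.IrrCharacter G → ℤ),
      (∀ χ : Cfsg.IrrCharacter G, deg χ = Cfsg.charDegree (χ : G → ℂ)) ∧ (∀ χ, 0 < deg χ) ∧ deg o = 1 ∧
      (∀ g, (o : G → ℂ) g = 1) ∧
      (∀ i (χ : Cfsg.IrrCharacter G), Cfsg.classInner (D.F (X.θ i)) (χ : G → ℂ) = (d i χ : ℂ)) ∧
      (∀ i j, ∑ χ, d i χ * d j χ = 2 * X.g i j) ∧ (∀ i, ∑ χ, d i χ * (deg χ : ℤ) = 0) ∧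
      (∀ i, d i o = X.one i) ∧ (∀ χ, v χ = ∑ i, X.c i * d i χ) ∧
      (∀ χ : Cfsg.IrrCharacter G, (χ : G → ℂ) D.t = (v χ : ℂ)) ∧ v o = 1 ∧
      ∀ i, (Nat.card G : ℚ) * ∑ χ, (d i χ : ℚ) * (v χ : ℚ) ^ 2 / (deg χ : ℚ) =
        4 * (Nat.card L : ℚ) * X.S i := by
  have h1 : (((H36.SelfCentral.triv G : Cfsg.IrrCharacter G) : G → ℂ) 1) = ((1 : ℕ) : ℂ) := by
    rw [Nat.cast_one]; rfl
  have h2 : Cfsg.charDegree ((H36.SelfCentral.triv G : Cfsg.IrrCharacter G) : G → ℂ) = 1 := by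
    rw [Cfsg.charDegree, h1, Complex.natCast_re, Nat.floor_natCast]
  exact ⟨H36.SelfCentral.triv G, fun χ => Cfsg.charDegree (χ : G → ℂ), D.d X, D.val X,
    fun _ => rfl, fun χ => (H83.charDegree_eq χ.2).2, h2, fun _ => rfl, D.d_spec X,
    D.d_gram X, D.d_deg X, D.d_triv X, fun _ => rfl, D.apply_val X, D.val_triv X,
    D.d_structure X hconj⟩

end TData

end Cfsg.Agent.H84.Ward
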