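import Mathlib

/-!
# The four column equations for `C(t) = 2 × L₂(q)` (signed `Q`, helper64's uniform form)

`h₀`, `h₁` are the class-algebra equations on the `t`-section, `hX` the exceptional one on the small torus,
`hy` the one at an element of that torus. The degrees are signed: `1, A, B, B', D, y`, and `X = A - y`.
-/

namespace Cfsg.Agent.H84.Ward

/-- The four equations give `y = QA`, `Q > 0` and the Ree order (`g = sgn(Q) |G|`), with a square condition. -/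
theorem four_eq_finish {Q A B B' D y g : ℤ} (hQ2 : 2 ≤ Q.natAbs) (hQ1 : Q ≠ -1) (hg : 0 < Q * g)
    (hA : A ≠ 0) (hy0 : y ≠ 0) (hD0 : D ≠ 0) (hX : A ≠ y) (hB : B ≠ 0) (hB' : B' ≠ 0)
    (hsum : 1 + A + D + y = 0) (hBB : B + B' = 1 + A) (K : ℚ)
    (hK : (g : ℚ) * K = ((Q : ℚ) * ((Q : ℚ) ^ 2 - 1)) ^ 2)
    (h₀ : 1 + 1 / (A : ℚ) + (Q : ℚ) ^ 2 * (1 / (D : ℚ) + 1 / (y : ℚ)) = ((Q : ℚ) - 1) * K)
    (h₁ : (((Q : ℚ) - 1) / 2) ^ 2 * (1 / (B : ℚ) + 1 / (B' : ℚ)) +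
      (Q : ℚ) ^ 2 * (1 / (D : ℚ) + 1 / (y : ℚ)) = (3 * (Q : ℚ) - 1) / ((Q : ℚ) + 1) * K)
    (hexc : ((Q : ℚ) - 1) ^ 2 * ((Q : ℚ) + 1) / ((Q : ℚ) * ((A : ℚ) - y)) = K)
    (hy : 1 - 3 / (A : ℚ) + (Q : ℚ) ^ 2 * (3 / (y : ℚ) - 1 / (D : ℚ)) -
      2 * (((Q : ℚ) - 1) / 2) ^ 2 * (1 / (B : ℚ) + 1 / (B' : ℚ)) +
      12 * ((Q : ℚ) - 1) ^ 2 / ((A : ℚ) - y) = ((Q : ℚ) + 1) * K) :
    0 < Q ∧ A = -(Q ^ 2 - Q + 1) ∧ y = Q * A ∧ D = Q ^ 3 ∧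
      g = Q ^ 3 * (Q ^ 3 + 1) * (Q - 1) ∧ 3 * (B - B') ^ 2 = Q * ((Q - 1) * (Q + 1)) ^ 2 := by
  have qA : (A : ℚ) ≠ 0 := by exact_mod_cast hA
  have qy : (y : ℚ) ≠ 0 := by exact_mod_cast hy0
  have qD : (D : ℚ) ≠ 0 := by exact_mod_cast hD0
  have qB : (B : ℚ) ≠ 0 := by exact_mod_cast hB
  have qB' : (B' : ℚ) ≠ 0 := by exact_mod_cast hB'
  have qX : (A : ℚ) - y ≠ 0 := sub_ne_zero.2 (by exact_mod_cast hX)
  have qQ : (Q : ℚ) ≠ 0 := by exact_mod_cast (by omega : Q ≠ 0)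
  have qQ1 : (Q : ℚ) + 1 ≠ 0 := by exact_mod_cast (by omega : Q + 1 ≠ 0)
  have key : 1 / (A : ℚ) - (Q : ℚ) ^ 2 / y = ((Q : ℚ) - 1) ^ 2 / ((A : ℚ) - y) := by
    have hK8 : (8 * (Q : ℚ) / ((Q : ℚ) + 1)) * K = 8 * ((Q : ℚ) - 1) ^ 2 / ((A : ℚ) - y) := by
      rw [← hexc]; field_simp
    have hc : ((Q : ℚ) + 1) * K + 2 * ((3 * (Q : ℚ) - 1) / ((Q : ℚ) + 1) * K) - ((Q : ℚ) - 1) * K =
        (8 * (Q : ℚ) / ((Q : ℚ) + 1)) * K := by field_simp; ring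
    rw [hK8, ← hy, ← h₁, ← h₀] at hc
    linear_combination (-1 / 4 : ℚ) * hc
  have hyQA : y = Q * A := by
    field_simp at key
    have h2 : ((y : ℚ) - Q * A) ^ 2 = 0 := by linear_combination -key
    have h3 := sub_eq_zero.1 (pow_eq_zero_iff two_ne_zero |>.1 h2)
    exact_mod_cast h3
  subst hyQA
  have hD : D = -1 - (Q + 1) * A := by linarith
  have quad : (Q * A + Q ^ 3 + 1) * D + Q ^ 3 * A = 0 := by
    push_cast at h₀ qy qX hexc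
    have hQm : (Q : ℚ) - 1 ≠ 0 := fun e => qX (by linear_combination (-(A : ℚ)) * e)
    have hK0 : K * ((Q : ℚ) * A) = -(((Q : ℚ) - 1) * ((Q : ℚ) + 1)) := by
      rw [← hexc, show (A : ℚ) - Q * A = -(((Q : ℚ) - 1) * A) by ring]
      field_simp
    field_simp at h₀
    have h4 : ((Q : ℚ) * A + Q ^ 3 + 1) * D + (Q : ℚ) ^ 3 * A = 0 := by
      linear_combination (Q : ℚ) * h₀ + (D : ℚ) * ((Q : ℚ) - 1) * hK0
    exact_mod_cast h4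
  have hA' : A = -(Q ^ 2 - Q + 1) := by
    have h2 : (Q * A + 1) * (A + (Q ^ 2 - Q + 1)) * (Q + 1) = 0 := by
      rw [hD] at quad; linear_combination -quad
    rcases mul_eq_zero.1 h2 with h3 | h3
    · rcases mul_eq_zero.1 h3 with h4 | h4
      · exfalso
        have h5 : Q * -A = 1 := by linear_combination -h4
        have := congrArg Int.natAbs h5
        rw [Int.natAbs_mul] at this
        have := Nat.eq_one_of_mul_eq_one_right this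
        omega
      · linear_combination h4
    · exfalso; omega
  subst hA'
  have hD' : D = Q ^ 3 := by rw [hD]; ring
  subst hD'
  have hn : (0 : ℚ) < (Q : ℚ) ^ 2 - Q + 1 := by nlinarith [sq_nonneg ((Q : ℚ) - 1 / 2)]
  have qQm : (Q : ℚ) - 1 ≠ 0 := sub_ne_zero.2 (by exact_mod_cast (by omega : Q ≠ 1))
  push_cast at hexc h₁ qX qy qA
  have hKv : K * ((Q : ℚ) * ((Q : ℚ) ^ 2 - Q + 1)) = (Q : ℚ) ^ 2 - 1 := by
    rw [← hexc]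
    have e : -((Q : ℚ) ^ 2 - Q + 1) - (Q : ℚ) * -((Q : ℚ) ^ 2 - Q + 1) =
        ((Q : ℚ) - 1) * ((Q : ℚ) ^ 2 - Q + 1) := by ring
    rw [e, div_mul_eq_mul_div, div_eq_iff (mul_ne_zero qQ (mul_ne_zero qQm hn.ne'))]
    ring
  have hgv : g = Q ^ 3 * (Q ^ 3 + 1) * (Q - 1) := by
    have h3 : ((g : ℚ) - (Q : ℚ) ^ 3 * ((Q : ℚ) ^ 3 + 1) * ((Q : ℚ) - 1)) *
        ((Q : ℚ) ^ 2 - 1) = 0 := by
      linear_combination ((Q : ℚ) * ((Q : ℚ) ^ 2 - Q + 1)) * hK - (g : ℚ) * hKv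
    have h4 : (Q : ℚ) ^ 2 - 1 ≠ 0 := by
      rw [show (Q : ℚ) ^ 2 - 1 = ((Q : ℚ) - 1) * ((Q : ℚ) + 1) by ring]
      exact mul_ne_zero qQm qQ1
    have h5 := sub_eq_zero.1 ((mul_eq_zero.1 h3).resolve_right h4)
    exact_mod_cast h5
  have hu : (((Q : ℚ) - 1) / 2) ^ 2 * (1 / (B : ℚ) + 1 / (B' : ℚ)) *
      ((Q : ℚ) ^ 2 - Q + 1) = 3 * ((Q : ℚ) - 1) := by
    have e2 : (Q : ℚ) ^ 2 * (1 / (Q : ℚ) ^ 3 + 1 / ((Q : ℚ) * -((Q : ℚ) ^ 2 - Q + 1))) *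
        ((Q : ℚ) * ((Q : ℚ) ^ 2 - Q + 1)) = ((Q : ℚ) ^ 2 - Q + 1) - (Q : ℚ) ^ 2 := by
      have n1 : ∀ n : ℚ, n ≠ 0 → (Q : ℚ) ^ 2 * (1 / (Q : ℚ) ^ 3 + 1 / ((Q : ℚ) * -n)) *
          ((Q : ℚ) * n) = n - (Q : ℚ) ^ 2 := fun n hn' => by field_simp; ring
      exact n1 _ hn.ne'
    have h6 := congrArg (· * ((Q : ℚ) * ((Q : ℚ) ^ 2 - Q + 1))) h₁
    simp only [add_mul, e2, mul_assoc ((3 * (Q : ℚ) - 1) / ((Q : ℚ) + 1)) K, hKv] at h6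
    have e3 : (3 * (Q : ℚ) - 1) / ((Q : ℚ) + 1) * ((Q : ℚ) ^ 2 - 1) =
        (3 * (Q : ℚ) - 1) * ((Q : ℚ) - 1) := by field_simp; ring
    rw [e3] at h6
    refine mul_left_cancel₀ qQ ?_
    linear_combination h6
  field_simp at hu
  have h7 : ((B : ℚ) + B') = 1 + -((Q : ℚ) ^ 2 - Q + 1) := by exact_mod_cast hBB
  have h9 : 3 * ((B : ℚ) - B') ^ 2 = (Q : ℚ) * (((Q : ℚ) - 1) * ((Q : ℚ) + 1)) ^ 2 := by
    linear_combination hu + (3 * ((B : ℚ) + B' + (1 + -((Q : ℚ) ^ 2 - Q + 1))) -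
      ((Q : ℚ) - 1) * ((Q : ℚ) ^ 2 - Q + 1)) * h7
  have h10 : 3 * (B - B') ^ 2 = Q * ((Q - 1) * (Q + 1)) ^ 2 := by exact_mod_cast h9
  have hw : (0 : ℤ) < ((Q - 1) * (Q + 1)) ^ 2 := by
    refine lt_of_le_of_ne (sq_nonneg _) (Ne.symm (pow_ne_zero 2 (mul_ne_zero ?_ ?_))) <;> omega
  have hpos : 0 < Q := by
    have hQ0 : Q ≠ 0 := by omega
    by_contra hc
    nlinarith [sq_nonneg (B - B'), mul_neg_of_neg_of_pos (show Q < 0 by omega) hw]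
  exact ⟨hpos, rfl, rfl, rfl, hgv, h10⟩

/-- `3 z² = q w²` with `q` a prime power `≥ 11` forces `q = 3^(2n+1)`. -/
theorem three_odd_pow {p a q : ℕ} (hp : p.Prime) (hq : q = p ^ a) (hq11 : 11 ≤ q) {z w : ℤ}
    (hw : w ≠ 0) (h : 3 * z ^ 2 = (q : ℤ) * w ^ 2) : ∃ n : ℕ, 1 ≤ n ∧ q = 3 ^ (2 * n + 1) := by
  have hn := congrArg Int.natAbs h
  simp only [Int.natAbs_mul, Int.natAbs_pow, Int.natAbs_natCast, Int.reduceAbs] at hn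
  have hw' : w.natAbs ≠ 0 := Int.natAbs_ne_zero.2 hw
  have hz : z.natAbs ≠ 0 := fun e => by simp [e] at hn; omega
  rw [hq] at hn
  have h3 := congrArg (fun x => x.factorization 3) hn
  rw [Nat.factorization_mul (by norm_num) (pow_ne_zero 2 hz),
    Nat.factorization_mul (pow_ne_zero a hp.ne_zero) (pow_ne_zero 2 hw'), Nat.factorization_pow,
    Nat.factorization_pow, Nat.factorization_pow] at h3
  simp only [Finsupp.add_apply, Finsupp.smul_apply, smul_eq_mul, hp.factorization,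
    Nat.prime_three.factorization, Finsupp.single_apply] at h3
  by_cases hp3 : p = 3
  · subst hp3
    simp only [if_pos] at h3
    refine ⟨a / 2, ?_, ?_⟩
    · by_contra hc
      have : a = 1 := by omega
      subst this; omega
    · rw [hq]; congr 1; omega
  · rw [if_neg hp3] at h3; simp at h3; omega

/-- The four equations give `q = 3^(2n+1)` and the Ree order. -/
theorem four_eq_ree {p a q : ℕ} (hp : p.Prime) (hq : q = p ^ a) (hq11 : 11 ≤ q)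
    {Q A B B' D y g : ℤ} (hQ : Q.natAbs = q) (hg : 0 < Q * g)
    (hA : A ≠ 0) (hy0 : y ≠ 0) (hD0 : D ≠ 0) (hX : A ≠ y) (hB : B ≠ 0) (hB' : B' ≠ 0)
    (hsum : 1 + A + D + y = 0) (hBB : B + B' = 1 + A) (K : ℚ)
    (hK : (g : ℚ) * K = ((Q : ℚ) * ((Q : ℚ) ^ 2 - 1)) ^ 2)
    (h₀ : 1 + 1 / (A : ℚ) + (Q : ℚ) ^ 2 * (1 / (D : ℚ) + 1 / (y : ℚ)) = ((Q : ℚ) - 1) * K)
    (h₁ : (((Q : ℚ) - 1) / 2) ^ 2 * (1 / (B : ℚ) + 1 / (B' : ℚ)) +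
      (Q : ℚ) ^ 2 * (1 / (D : ℚ) + 1 / (y : ℚ)) = (3 * (Q : ℚ) - 1) / ((Q : ℚ) + 1) * K)
    (hexc : ((Q : ℚ) - 1) ^ 2 * ((Q : ℚ) + 1) / ((Q : ℚ) * ((A : ℚ) - y)) = K)
    (hy : 1 - 3 / (A : ℚ) + (Q : ℚ) ^ 2 * (3 / (y : ℚ) - 1 / (D : ℚ)) -
      2 * (((Q : ℚ) - 1) / 2) ^ 2 * (1 / (B : ℚ) + 1 / (B' : ℚ)) +
      12 * ((Q : ℚ) - 1) ^ 2 / ((A : ℚ) - y) = ((Q : ℚ) + 1) * K) :
    ∃ n : ℕ, 1 ≤ n ∧ q = 3 ^ (2 * n + 1) ∧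
      g = (q : ℤ) ^ 3 * ((q : ℤ) ^ 3 + 1) * ((q : ℤ) - 1) := by
  obtain ⟨hpos, -, -, -, hgv, hsq⟩ := four_eq_finish (by omega) (by omega) hg hA hy0 hD0 hX hB hB'
    hsum hBB K hK h₀ h₁ hexc hy
  obtain rfl : Q = (q : ℤ) := by omega
  obtain ⟨n, hn, hqn⟩ := three_odd_pow hp hq hq11
    (mul_ne_zero (by omega) (by omega) : ((q : ℤ) - 1) * ((q : ℤ) + 1) ≠ 0) hsq
  exact ⟨n, hn, hqn, hgv⟩

end Cfsg.Agent.H84.Ward
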