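import Cfsg.Agent.CharBasic.Complete
import Cfsg.Agent.CharInduce.Ops
import Cfsg.Agent.CharInduce.Induce
import Cfsg.Agent.H83.ClassConst
import Cfsg.Agent.H36.DegreeEq

/-!
# Functions on the 2-section of an involution `t` with `C(t) ≅ 2 × L`

For a generalised character `θ` of `L` vanishing at elements of even order, `F θ` is induced from
`(1 - sgn) ⊗ θ`.  Its coefficients `d θ χ` satisfy `∑ d θ · d θ' = 2 ⟨θ, θ'⟩`, `∑ d θ χ(1) = 0`, give
`χ(t)`, and satisfy the class multiplication identity for pairs of involutions.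
-/

namespace Cfsg.Agent.H84.Ward

open Subgroup Cfsg.Agent.CharBasic Cfsg.Agent.CharInduce
open scoped ComplexConjugate

universe u v

/-- The non-trivial element of the group of order two. -/
def tu : Multiplicative (ZMod 2) := Multiplicative.ofAdd 1

theorem z2_cases : ∀ a : Multiplicative (ZMod 2), a = 1 ∨ a = tu := by decide

theorem tu_ne_one : tu ≠ (1 : Multiplicative (ZMod 2)) := by decide

theorem tu_mul_self : tu * tu = (1 : Multiplicative (ZMod 2)) := by decide

theorem tu_pow_odd {n : ℕ} (h : Odd n) : tu ^ n = tu := by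
  obtain ⟨k, rfl⟩ := h
  rw [pow_succ, pow_mul, pow_two, tu_mul_self, one_pow, one_mul]

/-- The sign character of the group of order two. -/
noncomputable def sgn : Multiplicative (ZMod 2) →* ℂˣ where
  toFun a := if a = tu then -1 else 1
  map_one' := by rw [if_neg tu_ne_one.symm]
  map_mul' a b := by
    rcases z2_cases a with rfl | rfl <;> rcases z2_cases b with rfl | rfl <;>
      simp [tu_mul_self, tu_ne_one.symm]

/-- A group `G` with an involution `t` whose centraliser is `⟨t⟩ × L`. -/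
structure TData (G : Type u) (L : Type v) [Group G] [Group L] where
  t : G
  e : ↥(centralizer ({t} : Set G)) ≃* Multiplicative (ZMod 2) × L
  et : ((e.symm (tu, 1) : ↥(centralizer ({t} : Set G))) : G) = t

/-- A generalised character vanishing at all elements of even order. -/
structure VanEven {L : Type v} [Group L] (θ : L → ℂ) : Prop where
  gen : Cfsg.IsGeneralizedCharacter L θ
  even : ∀ a : L, ¬ Odd (orderOf a) → θ a = 0

namespace TData

variable {G : Type u} {L : Type v} [Group G] [Group L] (D : TData G L)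

/-- The inclusion of `2 × L`. -/
def emb : Multiplicative (ZMod 2) × L →* G :=
  (centralizer ({D.t} : Set G)).subtype.comp D.e.symm.toMonoidHom

theorem emb_t : D.emb (tu, 1) = D.t := D.et

theorem emb_injective : Function.Injective D.emb :=
  Subtype.val_injective.comp D.e.symm.injective

theorem emb_mem (c : Multiplicative (ZMod 2) × L) : D.emb c ∈ centralizer ({D.t} : Set G) :=
  (D.e.symm c).2

theorem exists_emb {g : G} (hg : g ∈ centralizer ({D.t} : Set G)) : ∃ c, D.emb c = g :=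
  ⟨D.e ⟨g, hg⟩, by simp [emb]⟩

theorem t_sq : D.t * D.t = 1 := by
  rw [← D.emb_t, ← map_mul, Prod.mk_mul_mk, tu_mul_self, mul_one]
  exact map_one _

theorem t_ne_one : D.t ≠ 1 := fun h => tu_ne_one (congrArg Prod.fst
  (D.emb_injective (D.emb_t.trans (h.trans (map_one D.emb).symm))))

/-- An odd power of a section element is `t`. -/
theorem emb_pow {a : L} {N : ℕ} (hN : Odd N) (ha : orderOf a ∣ N) :
    D.emb (tu, a) ^ N = D.t := by
  rw [← map_pow, Prod.pow_mk, tu_pow_odd hN, orderOf_dvd_iff_pow_eq_one.1 ha, D.emb_t]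

theorem mem_of_conj {x : G} {a b : L} (ha : Odd (orderOf a)) (hb : Odd (orderOf b))
    (h : x * D.emb (tu, a) * x⁻¹ = D.emb (tu, b)) : x ∈ centralizer ({D.t} : Set G) := by
  have h' : x * D.t * x⁻¹ = D.t := by
    have hN : Odd (orderOf a * orderOf b) := ha.mul hb
    calc x * D.t * x⁻¹ = (x * D.emb (tu, a) * x⁻¹) ^ (orderOf a * orderOf b) := by
          rw [conj_pow, D.emb_pow hN (dvd_mul_right _ _)]
      _ = D.t := by rw [h, D.emb_pow hN (dvd_mul_left _ _)]
  exact mem_centralizer_singleton_iff.2 (mul_inv_eq_iff_eq_mul.1 h')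

theorem mem_of_inverts {x : G} {a : L} (ha : Odd (orderOf a))
    (h : x * D.emb (tu, a) * x⁻¹ = (D.emb (tu, a))⁻¹) : x ∈ centralizer ({D.t} : Set G) := by
  have h' : x * D.t * x⁻¹ = D.t := by
    calc x * D.t * x⁻¹ = (x * D.emb (tu, a) * x⁻¹) ^ orderOf a := by
          rw [conj_pow, D.emb_pow ha dvd_rfl]
      _ = D.t := by
          rw [h, inv_pow, D.emb_pow ha dvd_rfl, inv_eq_of_mul_eq_one_left D.t_sq]
  exact mem_centralizer_singleton_iff.2 (mul_inv_eq_iff_eq_mul.1 h')

/-- `(1 - sgn) ⊗ θ`. -/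
noncomputable def lift (θ : L → ℂ) : Multiplicative (ZMod 2) × L → ℂ :=
  fun c => if c.1 = tu then 2 * θ c.2 else 0

theorem isGen_lift {θ : L → ℂ} (h : VanEven θ) :
    Cfsg.IsGeneralizedCharacter (Multiplicative (ZMod 2) × L) (lift θ) := by
  have he : lift θ = (fun c : Multiplicative (ZMod 2) × L =>
      (1 : ℂ) - ((sgn.comp (MonoidHom.fst _ L)) c : ℂ)) * fun c => θ c.2 := by
    funext c
    simp only [lift, sgn, MonoidHom.coe_comp, MonoidHom.coe_fst, Function.comp_apply,
      MonoidHom.coe_mk, OneHom.coe_mk, Pi.mul_apply]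
    split_ifs <;> simp; norm_num
  rw [he]
  exact IsGen.mul ⟨_, _, IsChar.one, isCharacter_hom _, rfl⟩
    (IsGen.comp h.gen (MonoidHom.snd (Multiplicative (ZMod 2)) L))

variable [Fintype G]

/-- The function induced from `(1 - sgn) ⊗ θ`. -/
noncomputable def F (θ : L → ℂ) : G → ℂ :=
  Cfsg.indFun (centralizer ({D.t} : Set G)) fun z => lift θ (D.e z)

theorem isGen_F {θ : L → ℂ} (h : VanEven θ) : Cfsg.IsGeneralizedCharacter G (D.F θ) :=
  IsGen.ind _ (IsGen.comp (isGen_lift h) D.e.toMonoidHom)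

theorem isClass_F (θ : L → ℂ) : Cfsg.IsClassFunction G (D.F θ) := isClassFunction_indFun _ _

theorem F_one (θ : L → ℂ) : D.F θ 1 = 0 := by
  rw [F, indFun_one]
  simp [lift, tu_ne_one.symm]

/-- `F θ` on the section. -/
theorem F_emb {θ : L → ℂ} (h : VanEven θ) {a : L} (ha : Odd (orderOf a)) :
    D.F θ (D.emb (tu, a)) = 2 * θ a := by
  classical
  rw [F, indFun_apply]
  have key : ∀ x : G, Cfsg.extendByZero (centralizer ({D.t} : Set G))
      (fun z => lift θ (D.e z)) (x⁻¹ * D.emb (tu, a) * x) =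
      if x ∈ centralizer ({D.t} : Set G) then 2 * θ a else 0 := by
    intro x
    by_cases hx : x ∈ centralizer ({D.t} : Set G)
    · obtain ⟨g, rfl⟩ := D.exists_emb hx
      have he : (D.emb g)⁻¹ * D.emb (tu, a) * D.emb g = D.emb (g⁻¹ * (tu, a) * g) := by
        rw [map_mul, map_mul, map_inv]
      rw [if_pos hx, he, extendByZero_of_mem _ (D.emb_mem _)]
      rw [show (⟨D.emb (g⁻¹ * (tu, a) * g), D.emb_mem _⟩ : centralizer ({D.t} : Set G)) =
        D.e.symm (g⁻¹ * (tu, a) * g) from rfl, MulEquiv.apply_symm_apply]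
      have h1 : (g⁻¹ * (tu, a) * g).1 = tu := by
        show g.1⁻¹ * tu * g.1 = tu
        rw [mul_comm g.1⁻¹ tu, inv_mul_cancel_right]
      rw [lift, if_pos h1]
      congr 1
      have := IsGen.isClassFunction h.gen a g.2⁻¹
      simpa using this
    · rw [if_neg hx]
      by_cases hm : x⁻¹ * D.emb (tu, a) * x ∈ centralizer ({D.t} : Set G)
      · rw [extendByZero_of_mem _ hm]
        obtain ⟨⟨c, b⟩, hc⟩ := D.exists_emb hm
        rw [show (⟨_, hm⟩ : centralizer ({D.t} : Set G)) = D.e.symm (c, b) from Subtype.ext hc.symm,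
          MulEquiv.apply_symm_apply]
        simp only [lift]
        split_ifs with h1
        · subst h1
          by_cases hb : Odd (orderOf b)
          · refine absurd ?_ hx
            refine inv_inv x ▸ inv_mem (D.mem_of_conj (x := x⁻¹) ha hb ?_)
            rw [inv_inv, hc]
          · rw [h.even b hb, mul_zero]
        · rfl
      · exact extendByZero_of_not_mem _ hm
  rw [Finset.sum_congr rfl fun x _ => key x, ← Finset.sum_filter, Finset.sum_const,
    nsmul_eq_mul, ← mul_assoc]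
  have hcard : (Finset.univ.filter fun x => x ∈ centralizer ({D.t} : Set G)).card =
      Nat.card (centralizer ({D.t} : Set G)) := by
    rw [Nat.card_eq_fintype_card, ← Fintype.card_subtype]
  rw [hcard, inv_mul_cancel₀ (card_ne_zero_complex _), one_mul]

/-- `F θ` is zero off the section. -/
theorem F_eq_zero {θ : L → ℂ} (h : VanEven θ) {g : G}
    (hg : ∀ x : G, ∀ a : L, Odd (orderOf a) → x⁻¹ * g * x ≠ D.emb (tu, a)) : D.F θ g = 0 := by
  rw [F, indFun_apply, Finset.sum_eq_zero, mul_zero]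
  intro x _
  by_cases hx : x⁻¹ * g * x ∈ centralizer ({D.t} : Set G)
  · rw [extendByZero_of_mem _ hx]
    obtain ⟨⟨c, b⟩, hc⟩ := D.exists_emb hx
    rw [show (⟨_, hx⟩ : centralizer ({D.t} : Set G)) = D.e.symm (c, b) from Subtype.ext hc.symm,
      MulEquiv.apply_symm_apply]
    simp only [lift]
    split_ifs with h1
    · subst h1
      rw [h.even b fun hb => hg x b hb hc.symm, mul_zero]
    · rfl
  · exact extendByZero_of_not_mem _ hx

include D in
theorem card_centralizer : Nat.card (centralizer ({D.t} : Set G)) = 2 * Nat.card L := by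
  rw [Nat.card_congr D.e.toEquiv, Nat.card_prod]
  congr 1
  simp

variable [Fintype L]

/-- Inner products with `F θ`. -/
theorem inner_F (θ : L → ℂ) {ψ : G → ℂ} (hψ : Cfsg.IsClassFunction G ψ) :
    Cfsg.classInner (D.F θ) ψ =
      (Nat.card L : ℂ)⁻¹ * ∑ a : L, θ a * conj (ψ (D.emb (tu, a))) := by
  classical
  have : Fintype (centralizer ({D.t} : Set G)) := Fintype.ofFinite _
  rw [F, classInner_indFun_left _ _ _ hψ, classInner_def, D.card_centralizer]
  have hsum : ∑ z : centralizer ({D.t} : Set G), lift θ (D.e z) * conj (ψ (z : G)) =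
      ∑ c : Multiplicative (ZMod 2) × L, lift θ c * conj (ψ (D.emb c)) := by
    refine Fintype.sum_equiv D.e.toEquiv _ _ fun z => ?_
    simp [emb]
  rw [hsum, Fintype.sum_prod_type, Finset.sum_eq_single tu]
  · simp only [lift, if_pos, mul_assoc, ← Finset.mul_sum]
    rw [Nat.cast_mul, Nat.cast_ofNat, mul_inv]
    ring
  · intro b _ hb
    simp [lift, hb]
  · simp

theorem inner_F_F {θ θ' : L → ℂ} (h : VanEven θ) (h' : VanEven θ') :
    Cfsg.classInner (D.F θ) (D.F θ') = 2 * Cfsg.classInner θ θ' := by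
  rw [D.inner_F θ (D.isClass_F θ'), classInner_def, mul_left_comm]
  congr 1
  rw [Finset.mul_sum]
  refine Finset.sum_congr rfl fun a _ => ?_
  by_cases ha : Odd (orderOf a)
  · rw [D.F_emb h' ha, map_mul, map_ofNat]; ring
  · rw [h.even a ha]; ring

omit [Fintype L] in
theorem exists_coef {θ : L → ℂ} (h : VanEven θ) (χ : Cfsg.IrrCharacter G) :
    ∃ n : ℤ, Cfsg.classInner (D.F θ) (χ : G → ℂ) = n :=
  CharInduce.IsGen.exists_int_coeff (D.isGen_F h) (IsIrr.isCharacter χ.2)

/-- The multiplicity of `χ` in `F θ`. -/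
noncomputable def coef {θ : L → ℂ} (h : VanEven θ) (χ : Cfsg.IrrCharacter G) : ℤ :=
  (D.exists_coef h χ).choose

omit [Fintype L] in
theorem coef_spec {θ : L → ℂ} (h : VanEven θ) (χ : Cfsg.IrrCharacter G) :
    Cfsg.classInner (D.F θ) (χ : G → ℂ) = D.coef h χ := (D.exists_coef h χ).choose_spec

open scoped Classical in
/-- The Gram relations. -/
theorem gram {θ θ' : L → ℂ} (h : VanEven θ) (h' : VanEven θ') {k : ℤ}
    (hk : Cfsg.classInner θ θ' = k) :
    ∑ χ : Cfsg.IrrCharacter G, D.coef h χ * D.coef h' χ = 2 * k := by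
  have h1 := classInner_eq_sum (ψ := D.F θ') (D.isClass_F θ)
  rw [D.inner_F_F h h', hk] at h1
  simp only [D.coef_spec h, D.coef_spec h', map_intCast] at h1
  have h2 : ((∑ χ : Cfsg.IrrCharacter G, D.coef h χ * D.coef h' χ : ℤ) : ℂ) = ((2 * k : ℤ) : ℂ) := by
    push_cast
    exact h1.symm
  exact_mod_cast h2

open scoped Classical in
omit [Fintype L] in
theorem expansion {θ : L → ℂ} (h : VanEven θ) (g : G) :
    ∑ χ : Cfsg.IrrCharacter G, (D.coef h χ : ℂ) * (χ : G → ℂ) g = D.F θ g := by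
  have h0 := congrFun (classFunction_expansion (D.isClass_F θ)) g
  rw [Finset.sum_apply] at h0
  rw [h0]
  exact Finset.sum_congr rfl fun χ _ => by rw [Pi.smul_apply, smul_eq_mul, D.coef_spec h]

open scoped Classical in
omit [Fintype L] in
/-- `F θ` has degree zero. -/
theorem deg_sum {θ : L → ℂ} (h : VanEven θ) :
    ∑ χ : Cfsg.IrrCharacter G, D.coef h χ * (Cfsg.charDegree (χ : G → ℂ) : ℤ) = 0 := by
  have h1 := D.expansion h 1
  rw [D.F_one] at h1
  have h2 : ((∑ χ : Cfsg.IrrCharacter G, D.coef h χ * (Cfsg.charDegree (χ : G → ℂ) : ℤ) : ℤ) : ℂ) =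
      ((0 : ℤ) : ℂ) := by
    push_cast
    rw [← h1]
    exact Finset.sum_congr rfl fun χ _ => by rw [(H83.charDegree_eq χ.2).1]
  exact_mod_cast h2

/-- The coefficient of the trivial character. -/
theorem coef_triv {θ : L → ℂ} (h : VanEven θ) {k : ℤ}
    (hk : Cfsg.classInner θ (fun _ => (1 : ℂ)) = k) :
    D.coef h (H36.SelfCentral.triv G) = k := by
  have h1 := D.inner_F θ (ψ := ((H36.SelfCentral.triv G : Cfsg.IrrCharacter G) : G → ℂ))
    (IsIrr.isClassFunction (H36.SelfCentral.triv G).2)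
  rw [D.coef_spec h] at h1
  rw [classInner_def] at hk
  have h2 : (D.coef h (H36.SelfCentral.triv G) : ℂ) = (k : ℂ) := by
    rw [h1, ← hk]; rfl
  exact_mod_cast h2

/-- The value at `t` from a combination equal to the regular character. -/
theorem apply_t {ι : Type*} [Fintype ι] (θ : ι → L → ℂ) (h : ∀ i, VanEven (θ i)) (c : ι → ℤ)
    (hreg : ∀ a : L, a ≠ 1 → ∑ i, (c i : ℂ) * θ i a = 0)
    (hreg1 : ∑ i, (c i : ℂ) * θ i 1 = (Nat.card L : ℂ)) (χ : Cfsg.IrrCharacter G) :
    (χ : G → ℂ) D.t = ((∑ i, c i * D.coef (h i) χ : ℤ) : ℂ) := by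
  classical
  have hcl := IsIrr.isClassFunction χ.2
  have hL : (Nat.card L : ℂ) ≠ 0 := card_ne_zero_complex L
  have h1 : conj ((χ : G → ℂ) D.t) = ((∑ i, c i * D.coef (h i) χ : ℤ) : ℂ) := by
    push_cast
    simp only [← D.coef_spec, D.inner_F _ hcl, Finset.mul_sum]
    rw [Finset.sum_comm, Finset.sum_eq_single (1 : L)]
    · rw [D.emb_t]
      calc conj ((χ : G → ℂ) D.t) = (Nat.card L : ℂ)⁻¹ * (Nat.card L : ℂ) * conj ((χ : G → ℂ) D.t) := by
            rw [inv_mul_cancel₀ hL, one_mul]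
        _ = _ := by
            rw [← hreg1, Finset.mul_sum, Finset.sum_mul]
            exact Finset.sum_congr rfl fun i _ => by ring
    · intro a _ ha
      rw [show ∑ i, (c i : ℂ) * ((Nat.card L : ℂ)⁻¹ * (θ i a * conj ((χ : G → ℂ) (D.emb (tu, a))))) =
        (∑ i, (c i : ℂ) * θ i a) * ((Nat.card L : ℂ)⁻¹ * conj ((χ : G → ℂ) (D.emb (tu, a)))) by
          rw [Finset.sum_mul]; exact Finset.sum_congr rfl fun i _ => by ring, hreg a ha, zero_mul]
    · simp
  have h2 := congrArg conj h1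
  rwa [Complex.conj_conj, map_intCast] at h2

/-- The elements of order at most two inverting `a`. -/
def Inv2 (a : L) : Type _ := {r : L // r * r = 1 ∧ (r * a) * (r * a) = 1}

/-- Pairs of involutions with product `c`. -/
def Pairs (c : Multiplicative (ZMod 2) × L) : Type _ :=
  {u : Multiplicative (ZMod 2) × L // u * u = 1 ∧ u ≠ 1 ∧ (u⁻¹ * c) * (u⁻¹ * c) = 1 ∧ u⁻¹ * c ≠ 1}

omit [Fintype L] in
theorem z2_mul_self : ∀ a : Multiplicative (ZMod 2), a * a = 1 := by decide

theorem card_pairs_eq {a : L} (ha : Odd (orderOf a)) (ha1 : a ≠ 1) :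
    Nat.card (Pairs (tu, a)) = 2 * Nat.card (Inv2 a) := by
  have hinv : ∀ {r : L}, r * r = 1 → r⁻¹ = r := fun h => inv_eq_of_mul_eq_one_left h
  have hsq : a * a ≠ 1 := fun h => by
    have h2 : orderOf a ∣ 2 := orderOf_dvd_of_pow_eq_one (by rw [pow_two, h])
    rcases (Nat.dvd_prime Nat.prime_two).1 h2 with h3 | h3
    · exact ha1 (orderOf_eq_one_iff.1 h3)
    · rw [h3] at ha; exact absurd ha (by decide)
  have h2 : Nat.card (Multiplicative (ZMod 2)) = 2 := by simp
  rw [show 2 * Nat.card (Inv2 a) = Nat.card (Multiplicative (ZMod 2) × Inv2 a) by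
    rw [Nat.card_prod, h2]]
  refine Nat.card_congr
    { toFun := fun u => (u.1.1, ⟨u.1.2, congrArg Prod.snd u.2.1, ?_⟩)
      invFun := fun z => ⟨(z.1, z.2.1), ?_, ?_, ?_, ?_⟩
      left_inv := fun u => rfl
      right_inv := fun z => rfl }
  · have h3 : (u.1.2⁻¹ * a) * (u.1.2⁻¹ * a) = 1 := congrArg Prod.snd u.2.2.2.1
    rwa [hinv (congrArg Prod.snd u.2.1)] at h3
  · exact Prod.ext (z2_mul_self _) z.2.2.1
  · intro h
    have hr : z.2.1 = 1 := congrArg Prod.snd h
    exact hsq (by simpa [hr] using z.2.2.2)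
  · refine Prod.ext (z2_mul_self _) ?_
    show (z.2.1⁻¹ * a) * (z.2.1⁻¹ * a) = 1
    rw [hinv z.2.2.1]; exact z.2.2.2
  · intro h
    have hr : z.2.1⁻¹ * a = 1 := congrArg Prod.snd h
    rw [inv_mul_eq_one] at hr
    exact hsq (hr ▸ z.2.2.1)

theorem card_pairs_one :
    (Nat.card (Pairs ((tu, 1) : Multiplicative (ZMod 2) × L)) : ℤ) =
      2 * (Nat.card {r : L // r * r = 1} : ℤ) - 2 := by
  classical
  let S : Set (Multiplicative (ZMod 2) × L) := {u | u.2 * u.2 = 1}
  let T : Set (Multiplicative (ZMod 2) × L) := {(1, 1), (tu, 1)}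
  have hT : T ⊆ S := by rintro u (rfl | rfl) <;> simp [S]
  have hS : S.ncard = 2 * Nat.card {r : L // r * r = 1} := by
    have h2 : Nat.card (Multiplicative (ZMod 2)) = 2 := by simp
    rw [← Nat.card_coe_set_eq, show 2 * Nat.card {r : L // r * r = 1} =
      Nat.card (Multiplicative (ZMod 2) × {r : L // r * r = 1}) by rw [Nat.card_prod, h2]]
    exact Nat.card_congr
      { toFun := fun u => (u.1.1, ⟨u.1.2, u.2⟩)
        invFun := fun z => ⟨(z.1, z.2.1), z.2.2⟩
        left_inv := fun u => rfl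
        right_inv := fun z => rfl }
  have hT2 : T.ncard = 2 := Set.ncard_pair (fun h => tu_ne_one (congrArg Prod.fst h).symm)
  have hset : Nat.card (Pairs ((tu, 1) : Multiplicative (ZMod 2) × L)) = (S \ T).ncard := by
    rw [← Nat.card_coe_set_eq]
    refine Nat.card_congr (Equiv.subtypeEquivRight fun u => ?_)
    simp only [S, T, Set.mem_diff, Set.mem_setOf_eq, Set.mem_insert_iff, Set.mem_singleton_iff,
      not_or]
    constructor
    · rintro ⟨h1, h2, -, h4⟩
      refine ⟨congrArg Prod.snd h1, h2, fun h5 => h4 (by rw [h5, inv_mul_cancel])⟩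
    · rintro ⟨h1, h2, h3⟩
      have h1' : u * u = 1 := Prod.ext (z2_mul_self _) h1
      refine ⟨h1', h2, Prod.ext (z2_mul_self _) ?_, fun h5 => h3 (inv_mul_eq_one.1 h5)⟩
      show (u.2⁻¹ * 1) * (u.2⁻¹ * 1) = 1
      rw [mul_one, ← mul_inv_rev, h1, inv_one]
  rw [hset, Set.ncard_sdiff hT, hT2, hS]
  have hpos : 2 ≤ 2 * Nat.card {r : L // r * r = 1} := by
    have : Nonempty {r : L // r * r = 1} := ⟨⟨1, one_mul 1⟩⟩
    have := Nat.card_pos (α := {r : L // r * r = 1})
    omega
  omega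

omit [Fintype L] in
theorem card_pairs {a : L} (ha : Odd (orderOf a))
    (hconj : ∀ u : G, u * u = 1 → u ≠ 1 → IsConj D.t u) :
    Nat.card {x : G // IsConj D.t x ∧ IsConj D.t (x⁻¹ * D.emb (tu, a))} = Nat.card (Pairs (tu, a)) := by
  have hinv : ∀ x : G, IsConj D.t x → x * x = 1 ∧ x ≠ 1 := by
    intro x hx
    obtain ⟨k, rfl⟩ := isConj_iff.1 hx
    refine ⟨?_, fun h => D.t_ne_one (conj_eq_one_iff.1 h)⟩
    calc k * D.t * k⁻¹ * (k * D.t * k⁻¹) = k * (D.t * D.t) * k⁻¹ := by group
      _ = 1 := by rw [D.t_sq]; group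
  let f : Pairs (tu, a) → {x : G // IsConj D.t x ∧ IsConj D.t (x⁻¹ * D.emb (tu, a))} := fun u =>
    ⟨D.emb u.1, hconj _ (by rw [← map_mul, u.2.1, map_one])
        (fun h => u.2.2.1 (D.emb_injective (by rw [h, map_one]))), by
      rw [← map_inv, ← map_mul]
      exact hconj _ (by rw [← map_mul, u.2.2.2.1, map_one])
        (fun h => u.2.2.2.2 (D.emb_injective (by rw [h, map_one])))⟩
  refine (Nat.card_congr (Equiv.ofBijective f ⟨?_, ?_⟩)).symm
  · intro u v huv
    have h := congrArg Subtype.val huv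
    exact Subtype.ext (D.emb_injective h)
  · rintro ⟨x, hx, hy⟩
    obtain ⟨hx1, hx2⟩ := hinv x hx
    obtain ⟨hy1, hy2⟩ := hinv _ hy
    have hinvert : x * D.emb (tu, a) * x⁻¹ = (D.emb (tu, a))⁻¹ := by
      have hxi : x⁻¹ = x := inv_eq_of_mul_eq_one_left hx1
      rw [hxi] at hy1
      rw [hxi]
      refine eq_inv_of_mul_eq_one_left ?_
      calc x * D.emb (tu, a) * x * D.emb (tu, a)
          = x * D.emb (tu, a) * (x * D.emb (tu, a)) := by group
        _ = 1 := hy1
    obtain ⟨u, rfl⟩ := D.exists_emb (D.mem_of_inverts ha hinvert)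
    refine ⟨⟨u, ?_, ?_, ?_, ?_⟩, rfl⟩
    · exact D.emb_injective (by rw [map_mul, hx1, map_one])
    · exact fun h => hx2 (by rw [h, map_one])
    · exact D.emb_injective (by rw [map_mul, map_mul, map_inv, hy1, map_one])
    · exact fun h => hy2 (by rw [← map_inv, ← map_mul, h, map_one])

open scoped Classical in
/-- The class multiplication identity for pairs of involutions against `F θ`. -/
theorem structure_eq {θ : L → ℂ} (h : VanEven θ)
    (hconj : ∀ u : G, u * u = 1 → u ≠ 1 → IsConj D.t u)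
    (val : Cfsg.IrrCharacter G → ℤ) (hval : ∀ χ : Cfsg.IrrCharacter G, (χ : G → ℂ) D.t = val χ)
    (S : ℤ) (hS : ∑ a : L, θ a * (Nat.card (Pairs (tu, a)) : ℂ) = (S : ℂ)) :
    (Nat.card G : ℚ) * ∑ χ : Cfsg.IrrCharacter G,
      (D.coef h χ : ℚ) * (val χ : ℚ) ^ 2 / (Cfsg.charDegree (χ : G → ℂ) : ℚ) =
        4 * (Nat.card L : ℚ) * S := by
  let N : G → ℂ := fun g =>
    (Nat.card {x : G // IsConj D.t x ∧ IsConj D.t (x⁻¹ * g)} : ℂ)
  set K : ℂ := ((centralizer ({D.t} : Set G)).index : ℂ) with hK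
  have hG0 : (Nat.card G : ℂ) ≠ 0 := card_ne_zero_complex G
  have hL0 : (Nat.card L : ℂ) ≠ 0 := card_ne_zero_complex L
  have hdeg : ∀ χ : Cfsg.IrrCharacter G, (χ : G → ℂ) 1 = (Cfsg.charDegree (χ : G → ℂ) : ℂ) :=
    fun χ => (H83.charDegree_eq χ.2).1
  have hN : ∀ g, (Nat.card G : ℂ) * N g = K * K * ∑ χ : Cfsg.IrrCharacter G,
      (val χ : ℂ) ^ 2 * conj ((χ : G → ℂ) g) / (Cfsg.charDegree (χ : G → ℂ) : ℂ) := by
    intro g
    have h1 := H83.card_pairs_mul_card D.t D.t g
    have h2 := congrArg conj h1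
    simp only [map_mul, map_natCast, map_sum, map_div₀, hval, hdeg, map_intCast] at h2
    rw [h2]
    congr 1
    exact Finset.sum_congr rfl fun χ _ => by ring
  have hcl : Cfsg.IsClassFunction G N := by
    intro g x
    have e1 := hN (x * g * x⁻¹)
    have e2 : ∀ χ : Cfsg.IrrCharacter G, (χ : G → ℂ) (x * g * x⁻¹) = (χ : G → ℂ) g :=
      fun χ => IsIrr.isClassFunction χ.2 g x
    simp only [e2, ← hN] at e1
    exact mul_left_cancel₀ hG0 e1
  have hv : Cfsg.classInner (D.F θ) N = (Nat.card L : ℂ)⁻¹ * (S : ℂ) := by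
    rw [D.inner_F θ hcl, ← hS]
    congr 1
    refine Finset.sum_congr rfl fun a _ => ?_
    by_cases ha : Odd (orderOf a)
    · simp only [N]
      rw [D.card_pairs ha hconj, map_natCast]
    · rw [h.even a ha, zero_mul, zero_mul]
  have hNexp : N = ∑ χ : Cfsg.IrrCharacter G,
      (K * K * (val χ : ℂ) ^ 2 / ((Nat.card G : ℂ) * (Cfsg.charDegree (χ : G → ℂ) : ℂ))) •
        (χ : G → ℂ) := by
    funext g
    have e : conj (N g) = N g := by simp [N]
    rw [← e, Finset.sum_apply]
    have := congrArg conj (hN g)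
    simp only [map_mul, map_natCast, map_sum, map_div₀, map_pow, Complex.conj_conj, map_intCast,
      hK] at this
    rw [e] at this ⊢
    rw [← mul_right_inj' hG0, this, Finset.mul_sum, Finset.mul_sum]
    refine Finset.sum_congr rfl fun χ _ => ?_
    rw [Pi.smul_apply, smul_eq_mul, hK]
    field_simp
  rw [hNexp, classInner_sum_right] at hv
  have hsum : ∀ χ : Cfsg.IrrCharacter G, Cfsg.classInner (D.F θ)
      ((K * K * (val χ : ℂ) ^ 2 / ((Nat.card G : ℂ) * (Cfsg.charDegree (χ : G → ℂ) : ℂ))) •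
        (χ : G → ℂ)) =
      K * K / (Nat.card G : ℂ) *
        ((D.coef h χ : ℂ) * (val χ : ℂ) ^ 2 / (Cfsg.charDegree (χ : G → ℂ) : ℂ)) := by
    intro χ
    rw [classInner_smul_right, D.coef_spec h]
    simp only [map_div₀, map_mul, map_pow, map_natCast, map_intCast, hK]
    ring
  rw [Finset.sum_congr rfl fun χ _ => hsum χ, ← Finset.mul_sum] at hv
  have hKG : K * (2 * (Nat.card L : ℂ)) = (Nat.card G : ℂ) := by
    rw [hK, show (2 * (Nat.card L : ℂ)) = ((Nat.card (centralizer ({D.t} : Set G))) : ℂ) by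
      rw [D.card_centralizer]; push_cast; rfl]
    exact_mod_cast index_mul_card (centralizer ({D.t} : Set G))
  have hfin : (Nat.card G : ℂ) * ∑ χ : Cfsg.IrrCharacter G,
      (D.coef h χ : ℂ) * (val χ : ℂ) ^ 2 / (Cfsg.charDegree (χ : G → ℂ) : ℂ) =
        4 * (Nat.card L : ℂ) * (S : ℂ) := by
    have hfac : K * K / (Nat.card G : ℂ) =
        (Nat.card G : ℂ) / (4 * (Nat.card L : ℂ) * (Nat.card L : ℂ)) := by
      rw [div_eq_div_iff hG0 (mul_ne_zero (mul_ne_zero (by norm_num) hL0) hL0), ← hKG]; ring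
    rw [hfac] at hv
    field_simp at hv
    linear_combination hv
  exact_mod_cast hfin

end TData

end Cfsg.Agent.H84.Ward

namespace Cfsg.Agent.H84.Ward.TData

open Subgroup

universe u' v'

variable {G : Type u'} {L : Type v'} [Group G] [Group L]

/-- An isomorphism `C(t) ≅ 2 × L` with `L` centreless already sends `t` to `(tu, 1)`. -/
def ofIso (t : G) (ht : orderOf t = 2)
    (e : ↥(centralizer ({t} : Set G)) ≃* Multiplicative (ZMod 2) × L)
    (hZ : ∀ a : L, (∀ b : L, b * a = a * b) → a = 1) : TData G L where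
  t := t
  e := e
  et := by
    let T : ↥(centralizer ({t} : Set G)) := ⟨t, mem_centralizer_singleton_iff.2 rfl⟩
    have hc : ∀ b : L, b * (e T).2 = (e T).2 * b := fun b => by
      have h1 : e.symm (1, b) * T = T * e.symm (1, b) :=
        Subtype.ext (mem_centralizer_singleton_iff.1 (e.symm (1, b)).2)
      have h2 := congrArg e h1
      rw [map_mul, map_mul, MulEquiv.apply_symm_apply] at h2
      exact congrArg Prod.snd h2
    have hT : T ≠ 1 := fun h => by
      have h1 : t = 1 := congrArg Subtype.val h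
      rw [h1, orderOf_one] at ht
      omega
    have he : e T = (tu, 1) := by
      refine Prod.ext ?_ (hZ _ hc)
      rcases z2_cases (e T).1 with h | h
      · exact absurd (e.injective (a₂ := 1) (by rw [map_one]; exact Prod.ext h (hZ _ hc))) hT
      · exact h
    rw [← he, MulEquiv.symm_apply_apply]

theorem ofIso_t (t : G) (ht : orderOf t = 2)
    (e : ↥(centralizer ({t} : Set G)) ≃* Multiplicative (ZMod 2) × L)
    (hZ : ∀ a : L, (∀ b : L, b * a = a * b) → a = 1) : (ofIso t ht e hZ).t = t := rfl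

end Cfsg.Agent.H84.Ward.TData
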