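import Cfsg.Agent.H84.Ward.TRows

/-!
# The congruence `χ(1) ≡ χ(t) (mod |S|)`
-/

namespace Cfsg.Agent.H84.Ward

open Cfsg.Agent.CharBasic Cfsg.Agent.CharInduce
open scoped ComplexConjugate

universe u

/-- If all non-trivial elements of `S` are conjugate to `t` then `χ(1) ≡ χ(t)` modulo `|S|`. -/
theorem deg_congr {G : Type u} [Group G] [Fintype G] (S : Subgroup G) {t : G}
    (hS : ∀ s ∈ S, s ≠ 1 → IsConj t s) (χ : Cfsg.IrrCharacter G) {v : ℤ}
    (hv : (χ : G → ℂ) t = (v : ℂ)) :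
    (Nat.card S : ℤ) ∣ (Cfsg.charDegree (χ : G → ℂ) : ℤ) - v := by
  classical
  have : Fintype S := Fintype.ofFinite _
  obtain ⟨k, hk⟩ := classInner_isChar_nat (CharInduce.IsChar.res (IsIrr.isCharacter χ.2) S)
    (CharInduce.IsChar.one (G := S))
  rw [classInner_def, ← Finset.add_sum_erase _ _ (Finset.mem_univ (1 : S))] at hk
  have hval : ∀ s ∈ (Finset.univ : Finset S).erase 1,
      (χ : G → ℂ) (s : G) * conj ((fun _ : S => (1 : ℂ)) s) = (v : ℂ) := by
    intro s hs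
    obtain ⟨g, hg⟩ := isConj_iff.1 (hS s s.2 fun h =>
      Finset.ne_of_mem_erase hs (Subtype.ext h))
    rw [← hg, IsIrr.isClassFunction χ.2 t g, hv, map_one, mul_one]
  rw [Finset.sum_congr rfl hval, Finset.sum_const, Finset.card_erase_of_mem (Finset.mem_univ _),
    Finset.card_univ, ← Nat.card_eq_fintype_card, nsmul_eq_mul] at hk
  simp only [OneMemClass.coe_one, map_one, mul_one, (H83.charDegree_eq χ.2).1] at hk
  rw [Nat.cast_sub (Nat.one_le_iff_ne_zero.2 Nat.card_pos.ne')] at hk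
  have hn : (Nat.card S : ℂ) ≠ 0 := card_ne_zero_complex S
  rw [inv_mul_eq_iff_eq_mul₀ hn] at hk
  refine ⟨(k : ℤ) - v, ?_⟩
  have h2 : (((Cfsg.charDegree (χ : G → ℂ) : ℤ) - v : ℤ) : ℂ) =
      (((Nat.card S : ℤ) * ((k : ℤ) - v) : ℤ) : ℂ) := by
    push_cast
    push_cast at hk
    linear_combination hk
  exact_mod_cast h2

end Cfsg.Agent.H84.Ward
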