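import Cfsg.Agent.H84.Ward.EvenCore
import Cfsg.Agent.H29.Ward.Setting
import Cfsg.Prelude.Def_Classical

/-!
# Ward's theorem, even characteristic

If `G` is simple with abelian Sylow `2`-subgroups and `C(t) ≅ Z₂ × PSL₂(q)` with `q ≥ 3` even, then
`q = 4`: the automiser of the elementary abelian Sylow subgroup of order `2q` acts transitively on
the `2q - 1` involutions, so `2q - 1` is prime and the torus of order `q - 1` embeds in a Galois
group of order `n + 1`.
-/

set_option autoImplicit false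
set_option linter.unusedSectionVars false
set_option linter.style.haveILetI false

namespace Cfsg.Agent.H84.WardEven

open Subgroup Matrix

variable {F : Type*} [Field F] [Fintype F]

local notation "S2" => Matrix.SpecialLinearGroup (Fin 2) F

/-- Upper unitriangular element. -/
def uni (b : F) : S2 := ⟨!![1, b; 0, 1], by simp [det_fin_two]⟩

/-- Diagonal element. -/
def dia (a : Fˣ) : S2 := ⟨!![(a : F), 0; 0, ((a⁻¹ : Fˣ) : F)], by simp [det_fin_two]⟩

theorem uni_mul (b c : F) : (uni b : S2) * uni c = uni (b + c) := by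
  apply Subtype.ext
  rw [Matrix.SpecialLinearGroup.coe_mul]
  simp [uni, add_comm]

theorem uni_zero : (uni 0 : S2) = 1 := by
  apply Subtype.ext
  simp [uni, one_fin_two]

theorem uni_inj {b c : F} (h : (uni b : S2) = uni c) : b = c :=
  congrArg (fun M : S2 => (M : Matrix (Fin 2) (Fin 2) F) 0 1) h

theorem dia_conj (a : Fˣ) (b : F) :
    (dia a : S2) * uni b = uni ((a : F) * a * b) * dia a := by
  apply Subtype.ext
  rw [Matrix.SpecialLinearGroup.coe_mul, Matrix.SpecialLinearGroup.coe_mul]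
  simp [uni, dia]
  field_simp

theorem center_eq_bot [CharP F 2] : Subgroup.center S2 = ⊥ := by
  rw [Subgroup.eq_bot_iff_forall]
  intro A hA
  obtain ⟨r, hr, hA⟩ := Matrix.SpecialLinearGroup.mem_center_iff.1 hA
  rw [Fintype.card_fin] at hr
  have h2 : (2 : F) = 0 := by exact_mod_cast CharP.cast_eq_zero F 2
  have h1 : (r - 1) * (r - 1) = 0 := by linear_combination hr + (1 - r) * h2
  have hr1 : r = 1 := sub_eq_zero.1 (mul_self_eq_zero.1 h1)
  apply Subtype.ext
  rw [← hA, hr1, map_one]
  rfl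

theorem sq_inj [CharP F 2] {a b : F} (h : a * a = b * b) : a = b := by
  have h2 : (2 : F) = 0 := by exact_mod_cast CharP.cast_eq_zero F 2
  have h1 : (a - b) * (a - b) = 0 := by linear_combination h + (b * b - a * b) * h2
  exact sub_eq_zero.1 (mul_self_eq_zero.1 h1)

/-- A matrix carrying `uni 1` to a `uni c` is triangular. -/
theorem eq_of_norm (M : S2) (c : F) (h : M * uni 1 = uni c * M) :
    ∃ (a : Fˣ) (b : F), M = dia a * uni b := by
  have h00 := congrArg (fun N : S2 => (N : Matrix (Fin 2) (Fin 2) F) 1 1) h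
  simp only [Matrix.SpecialLinearGroup.coe_mul] at h00
  simp [uni, Matrix.mul_apply, Fin.sum_univ_two] at h00
  have hdet := M.2
  rw [det_fin_two, h00, mul_zero, sub_zero] at hdet
  have ha0 : M.1 0 0 ≠ 0 := left_ne_zero_of_mul_eq_one hdet
  refine ⟨Units.mk0 _ ha0, (M.1 0 0)⁻¹ * M.1 0 1, Subtype.ext ?_⟩
  rw [Matrix.SpecialLinearGroup.coe_mul]
  ext i j
  fin_cases i <;> fin_cases j <;> simp [uni, dia, h00]
  · field_simp
  · exact eq_inv_of_mul_eq_one_right hdet

theorem eq_of_comm [CharP F 2] (M : S2) (h : M * uni 1 = uni 1 * M) : ∃ b : F, M = uni b := by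
  obtain ⟨a, b, rfl⟩ := eq_of_norm M 1 h
  refine ⟨b, ?_⟩
  have h1 : dia a * uni (1 : F) * uni b = uni 1 * dia a * uni b := by
    rw [mul_assoc, uni_mul, add_comm, ← uni_mul, ← mul_assoc, h, ← mul_assoc]
  rw [dia_conj, mul_left_inj, mul_left_inj] at h1
  have h2 : (a : F) * a = 1 * 1 := by simpa using uni_inj h1
  have h3 : a = 1 := Units.ext (sq_inj h2)
  rw [h3, show (dia 1 : S2) = 1 from Subtype.ext (by simp [dia, one_fin_two]), one_mul]

theorem pow_lt {n : ℕ} (h : 2 ^ n - 1 ≤ n + 1) : n ≤ 2 := by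
  by_contra hn
  push Not at hn
  have : n + 5 ≤ 2 ^ n := by
    induction n, (show 3 ≤ n from hn) using Nat.le_induction with
    | base => norm_num
    | succ k hk ih =>
      rw [pow_succ]
      have := ih (by omega) (by omega)
      omega
  omega

/-- In even characteristic Ward's hypotheses force `q = 4`. -/
theorem card_eq_four {G : Type*} [Group G] [Finite G]
    [IsSimpleGroup G] (hab : ∀ P : Sylow 2 G, ∀ a b : P, a * b = b * a)
    {F : Type*} [Field F] [Fintype F] (hq : 3 ≤ Fintype.card F) (t : G) (ht : orderOf t = 2)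
    (hC : Nonempty (Subgroup.centralizer ({t} : Set G) ≃* Multiplicative (ZMod 2) × Matrix.ProjectiveSpecialLinearGroup (Fin 2) F))
    (he : Even (Fintype.card F)) : Fintype.card F = 4 := by
  classical
  obtain ⟨p, hp⟩ := CharP.exists F
  obtain ⟨⟨n, hn⟩, hpp, hcard⟩ := FiniteField.card F p
  simp only [PNat.mk_coe] at hcard
  have hp2 : p = 2 := by
    rw [hcard, Nat.even_pow] at he
    exact (hpp.even_iff).1 he.1
  subst hp2
  have hn2 : 2 ≤ n := by
    by_contra h
    have : n = 1 := by omega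
    subst this
    rw [hcard] at hq
    norm_num at hq
  obtain ⟨e₀⟩ := hC
  let π : Matrix.SpecialLinearGroup (Fin 2) F ≃* Matrix.ProjectiveSpecialLinearGroup (Fin 2) F :=
    QuotientGroup.quotientBot.symm.trans (QuotientGroup.quotientMulEquivOfEq center_eq_bot.symm)
  let e : centralizer ({t} : Set G) ≃* Multiplicative (ZMod 2) × Matrix.SpecialLinearGroup (Fin 2) F :=
    e₀.trans ((MulEquiv.refl _).prodCongr π.symm)
  -- the image of `t`
  set tc : centralizer ({t} : Set G) := ⟨t, mem_centralizer_singleton_iff.2 rfl⟩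
  have htc2 : (e tc).2 = 1 := by
    have hcen : (e tc).2 ∈ Subgroup.center (Matrix.SpecialLinearGroup (Fin 2) F) :=
      mem_center_iff.2 fun b => by
        have h1 : e.symm (1, b) * tc = tc * e.symm (1, b) :=
          Subtype.ext (mem_centralizer_singleton_iff.1 (e.symm (1, b)).2)
        have := congrArg (fun x => (e x).2) h1
        simpa using this
    rwa [center_eq_bot, mem_bot] at hcen
  have htc : e tc = (Multiplicative.ofAdd 1, 1) := by
    rcases H29.Ward.zmod_two_cases (e tc).1 with h | h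
    · exfalso
      have : tc = 1 := e.injective (by rw [map_one]; exact Prod.ext h htc2)
      have : t = 1 := congrArg Subtype.val this
      rw [this, orderOf_one] at ht
      exact absurd ht (by norm_num)
    · exact Prod.ext h htc2
  -- the elementary abelian subgroup of order `2q`
  let τ : Multiplicative (ZMod 2) × Matrix.SpecialLinearGroup (Fin 2) F →* G :=
    (centralizer ({t} : Set G)).subtype.comp e.symm.toMonoidHom
  have hτ : Function.Injective τ := fun a b h => e.symm.injective (Subtype.ext h)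
  have hτC : ∀ x, τ x ∈ centralizer ({t} : Set G) := fun x => (e.symm x).2
  have hτe : ∀ x : centralizer ({t} : Set G), τ (e x) = x := fun x =>
    congrArg Subtype.val (e.symm_apply_apply x)
  have hτt : τ (Multiplicative.ofAdd 1, 1) = t := by rw [← htc, hτe]
  let U : Multiplicative F →* Matrix.SpecialLinearGroup (Fin 2) F :=
    MonoidHom.mk' (fun b => uni b.toAdd) fun b c => by rw [toAdd_mul, uni_mul]
  let σ : Multiplicative (ZMod 2) × Multiplicative F →* G :=
    τ.comp ((MonoidHom.id _).prodMap U)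
  have hσ : ∀ z b, σ (z, Multiplicative.ofAdd b) = τ (z, uni b) := fun z b => rfl
  have hσinj : Function.Injective σ := by
    rintro ⟨z, b⟩ ⟨z', b'⟩ h
    have h1 : ((z, uni b.toAdd) : Multiplicative (ZMod 2) × _) = (z', uni b'.toAdd) := hτ h
    rw [Prod.mk.injEq] at h1
    exact Prod.ext h1.1 (Multiplicative.toAdd.injective (uni_inj h1.2))
  set S := σ.range with hSdef
  have hmemS : ∀ z b, τ (z, uni b) ∈ S := fun z b => ⟨(z, Multiplicative.ofAdd b), rfl⟩
  have hSex : ∀ x ∈ S, ∃ z b, x = τ (z, uni b) := by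
    rintro _ ⟨⟨z, b⟩, rfl⟩
    exact ⟨z, b.toAdd, rfl⟩
  have hScard : Nat.card S = 2 ^ (n + 1) := by
    rw [hSdef, ← Nat.card_congr (MonoidHom.ofInjective hσinj).toEquiv, Nat.card_prod,
      Nat.card_congr Multiplicative.toAdd, Nat.card_congr Multiplicative.toAdd, Nat.card_zmod,
      Nat.card_eq_fintype_card, hcard, pow_succ']
  have hScomm : ∀ a b : S, a * b = b * a := by
    rintro ⟨_, x, rfl⟩ ⟨_, y, rfl⟩
    apply Subtype.ext
    show σ x * σ y = σ y * σ x
    rw [← map_mul, ← map_mul, mul_comm]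
  have h2F : ∀ b : F, b + b = 0 := fun b => CharTwo.add_self_eq_zero b
  have hS2 : ∀ v : S, v * v = 1 := by
    rintro ⟨_, ⟨z, b⟩, rfl⟩
    apply Subtype.ext
    show σ (z, b) * σ (z, b) = 1
    rw [← map_mul, Prod.mk_mul_mk, H29.Ward.zmod_two_mul_self,
      show b * b = 1 from h2F b.toAdd, Prod.mk_one_one, map_one]
  have htS : t ∈ S := hτt ▸ uni_zero (F := F) ▸ hmemS _ 0
  have hCS : centralizer (S : Set G) ≤ S := by
    intro x hx
    have hxt : x ∈ centralizer ({t} : Set G) :=
      mem_centralizer_singleton_iff.2 (mem_centralizer_iff.1 hx t htS).symm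
    have h1 := mem_centralizer_iff.1 hx _ (hmemS 1 1)
    obtain ⟨⟨z, M⟩, rfl⟩ : ∃ y, τ y = x := ⟨_, hτe ⟨x, hxt⟩⟩
    rw [← map_mul, ← map_mul] at h1
    have h2 := congrArg Prod.snd (hτ h1)
    obtain ⟨b, hb⟩ := eq_of_comm M h2.symm
    rw [hb]
    exact hmemS _ _
  have hS2p : IsPGroup 2 S := IsPGroup.of_card hScard
  obtain ⟨P, hP⟩ := hS2p.exists_le_sylow
  have hPS : (P : Subgroup G) = S := le_antisymm (fun x hx => hCS (mem_centralizer_iff.2
    fun y hy => (congrArg Subtype.val (hab P ⟨y, hP hy⟩ ⟨x, hx⟩)))) hP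
  -- nonabelian
  obtain ⟨a₀, ha₀⟩ : ∃ a : Fˣ, a ≠ 1 := by
    have : 1 < Fintype.card Fˣ := by rw [Fintype.card_units]; omega
    haveI := Fintype.one_lt_card_iff_nontrivial.1 this
    exact exists_ne 1
  have hnab : ∃ a b : G, a * b ≠ b * a := by
    refine ⟨τ (1, dia a₀), τ (1, uni 1), fun h => ha₀ ?_⟩
    rw [← map_mul, ← map_mul] at h
    have h1 := congrArg Prod.snd (hτ h)
    simp only [Prod.snd_mul, dia_conj] at h1
    rw [mul_left_inj] at h1
    have h2 : (a₀ : F) * a₀ = 1 * 1 := by simpa using uni_inj h1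
    exact Units.ext (sq_inj h2)
  -- the automiser
  letI : CommGroup S := { (inferInstance : Group S) with mul_comm := hScomm }
  set N := normalizer (S : Set G)
  set A := S.normalizerMonoidHom.range with hA
  have hconj : ∀ (g : N) (v : S), ((S.normalizerMonoidHom g v : S) : G) = g * v * (g : G)⁻¹ :=
    fun g v => rfl
  have hker : S.normalizerMonoidHom.ker = S.subgroupOf N := by
    rw [normalizerMonoidHom_ker]
    ext x
    exact ⟨fun h => hCS h, fun h => mem_centralizer_iff.2 fun y hy =>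
      congrArg Subtype.val (hScomm ⟨y, hy⟩ ⟨x, h⟩)⟩
  have hodd : Odd (Nat.card A) := by
    rw [hA, ← Nat.card_congr (QuotientGroup.quotientKerEquivRange _).toEquiv, ← index_eq_card,
      hker]
    have h1 : S.relIndex N ∣ S.index := relIndex_dvd_index_of_le le_normalizer
    rw [← Nat.not_even_iff_odd, even_iff_two_dvd]
    intro h2
    exact P.not_dvd_index (by rw [hPS]; exact h2.trans h1)
  -- the action on the involutions of `S`
  let X := {v : S // v ≠ 1}
  letI : MulAction A X :=
    { smul := fun a v => ⟨(a : MulAut S) v.1, fun h => v.2 ((a : MulAut S).injective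
        (by rw [h, map_one]))⟩
      one_smul := fun v => Subtype.ext rfl
      mul_smul := fun a b v => Subtype.ext rfl }
  have hsmul : ∀ (a : A) (v : X), ((a • v : X) : S) = (a : MulAut S) v.1 := fun a v => rfl
  let t' : X := ⟨⟨t, htS⟩, fun h => by
    have : t = 1 := congrArg Subtype.val h
    rw [this, orderOf_one] at ht
    exact absurd ht (by norm_num)⟩
  have hdiaN : ∀ a : Fˣ, τ (1, dia a) ∈ N := by
    intro a
    rw [mem_normalizer_iff]
    have key : ∀ z b, τ (1, dia a) * τ (z, uni b) * (τ (1, dia a))⁻¹ =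
        τ (z, uni ((a : F) * a * b)) := by
      intro z b
      rw [← map_inv, ← map_mul, ← map_mul]
      congr 1
      refine Prod.ext (by simp) ?_
      show dia a * uni b * (dia a)⁻¹ = uni ((a : F) * a * b)
      rw [dia_conj, mul_inv_cancel_right]
    intro x
    constructor
    · intro hx
      obtain ⟨z, b, rfl⟩ := hSex x hx
      rw [key]; exact hmemS _ _
    · intro hx
      obtain ⟨z, b, hzb⟩ := hSex _ hx
      have : x = τ (z, uni (((a⁻¹ : Fˣ) : F) * ((a⁻¹ : Fˣ) : F) * b)) := by
        have h1 := key z (((a⁻¹ : Fˣ) : F) * ((a⁻¹ : Fˣ) : F) * b)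
        rw [show (a : F) * a * (((a⁻¹ : Fˣ) : F) * ((a⁻¹ : Fˣ) : F) * b) = b by
          simp; field_simp, ← hzb] at h1
        exact (mul_left_cancel (mul_right_cancel h1)).symm
      rw [this]; exact hmemS _ _
  let act : Fˣ → A := fun a => ⟨S.normalizerMonoidHom ⟨_, hdiaN a⟩, ⟨_, rfl⟩⟩
  have hact : ∀ (a : Fˣ) z b, ((((act a : A) : MulAut S) ⟨τ (z, uni b), hmemS z b⟩ : S) : G) =
      τ (z, uni ((a : F) * a * b)) := by
    intro a z b
    show τ (1, dia a) * τ (z, uni b) * (τ (1, dia a))⁻¹ = _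
    rw [← map_inv, ← map_mul, ← map_mul]
    congr 1
    refine Prod.ext (by simp) ?_
    show dia a * uni b * (dia a)⁻¹ = uni ((a : F) * a * b)
    rw [dia_conj, mul_inv_cancel_right]
  have hactt : ∀ a, act a • t' = t' := by
    intro a
    apply Subtype.ext
    apply Subtype.ext
    rw [hsmul]
    have : (⟨t, htS⟩ : S) = ⟨τ (Multiplicative.ofAdd 1, uni 0), hmemS _ 0⟩ :=
      Subtype.ext (show t = τ (Multiplicative.ofAdd 1, uni 0) by rw [uni_zero]; exact hτt.symm)
    show (((act a : MulAut S) ⟨t, htS⟩ : S) : G) = t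
    rw [this, hact, mul_zero, uni_zero, hτt]
  have hstab : ∀ x : A, x • t' = t' → ∃ a, x = act a := by
    rintro ⟨_, g, rfl⟩ hg
    have hgt : (g : G) * t * (g : G)⁻¹ = t := congrArg (fun v : X => ((v : S) : G)) hg
    have hgC : (g : G) ∈ centralizer ({t} : Set G) :=
      mem_centralizer_singleton_iff.2 (mul_inv_eq_iff_eq_mul.1 hgt)
    set gc : centralizer ({t} : Set G) := ⟨g, hgC⟩
    have h1 : (g : G) * τ (1, uni 1) * (g : G)⁻¹ ∈ S :=
      (mem_normalizer_iff.1 g.2 _).1 (hmemS 1 1)
    obtain ⟨z, c, hc⟩ := hSex _ h1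
    rw [← hτe gc] at hc
    rw [← map_inv, ← map_mul, ← map_mul] at hc
    have h2 := congrArg Prod.snd (hτ hc)
    simp only [Prod.snd_mul, Prod.snd_inv] at h2
    obtain ⟨a, b, hab'⟩ := eq_of_norm _ c (mul_inv_eq_iff_eq_mul.1 h2)
    refine ⟨a, Subtype.ext (MulEquiv.ext fun v => Subtype.ext ?_)⟩
    obtain ⟨w, b', hv⟩ := hSex v v.2
    have hv' : v = ⟨τ (w, uni b'), hmemS w b'⟩ := Subtype.ext hv
    rw [hv', hact]
    show (g : G) * τ (w, uni b') * (g : G)⁻¹ = _
    rw [show (g : G) = τ (e gc) from (hτe gc).symm, ← map_inv, ← map_mul, ← map_mul]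
    congr 1
    refine Prod.ext (by simp [mul_comm (e gc).1]) ?_
    show (e gc).2 * uni b' * ((e gc).2)⁻¹ = uni ((a : F) * a * b')
    rw [hab', _root_.mul_inv_rev, mul_assoc (dia a), uni_mul, add_comm, ← uni_mul]
    calc dia a * (uni b' * uni b) * ((uni b)⁻¹ * (dia a)⁻¹) = dia a * uni b' * (dia a)⁻¹ := by
          group
      _ = _ := by rw [dia_conj, mul_inv_cancel_right]
  have hfree : ∀ x : A, x • t' = t' → ∀ v, v ≠ t' → x • v = v → x = 1 := by
    intro x hx v hv hxv
    obtain ⟨a, rfl⟩ := hstab x hx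
    obtain ⟨z, b, hzb⟩ := hSex v.1 v.1.2
    have hv' : v.1 = ⟨τ (z, uni b), hmemS z b⟩ := Subtype.ext hzb
    have h1 : τ (z, uni ((a : F) * a * b)) = τ (z, uni b) := by
      rw [← hact, ← hv', ← hsmul, hxv]; exact hzb
    have h2 := uni_inj (congrArg Prod.snd (hτ h1))
    have hb : b ≠ 0 := by
      rintro rfl
      rcases H29.Ward.zmod_two_cases z with rfl | rfl
      · exact v.2 (Subtype.ext (by
          rw [hzb, uni_zero, Prod.mk_one_one, map_one, OneMemClass.coe_one]))
      · exact hv (Subtype.ext (Subtype.ext (by rw [hzb, uni_zero, hτt])))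
    have h3 : a = 1 := Units.ext (sq_inj (by
      rw [Units.val_one, mul_one]
      exact mul_right_cancel₀ hb (h2.trans (one_mul b).symm)))
    subst h3
    apply Subtype.ext
    ext w
    obtain ⟨z', b', hw⟩ := hSex w w.2
    rw [show w = ⟨τ (z', uni b'), hmemS z' b'⟩ from Subtype.ext hw, hact]
    simp
  have hst : Nat.card (MulAction.stabilizer A t') = Fintype.card F - 1 := by
    rw [← Fintype.card_units, ← Nat.card_eq_fintype_card]
    refine (Nat.card_eq_of_bijective (fun a => ⟨act a, hactt a⟩) ⟨?_, ?_⟩).symm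
    · intro a b h
      have h1 : (((act a : MulAut S) ⟨τ (1, uni 1), hmemS 1 1⟩ : S) : G) =
          (((act b : MulAut S) ⟨τ (1, uni 1), hmemS 1 1⟩ : S) : G) := by
        rw [show act a = act b from congrArg Subtype.val h]
      rw [hact, hact] at h1
      have h2 := uni_inj (congrArg Prod.snd (hτ h1))
      exact Units.ext (sq_inj (by simpa using h2))
    · rintro ⟨x, hx⟩
      obtain ⟨a, rfl⟩ := hstab x hx
      exact ⟨a, rfl⟩
  have hne : ∃ x : A, x • t' ≠ t' := by
    by_contra hc
    push Not at hc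
    have hnor : ∀ g ∈ normalizer ((P : Subgroup G) : Set G), g * t * g⁻¹ = t := by
      intro g hg
      rw [hPS] at hg
      exact congrArg (fun v : X => ((v : S) : G)) (hc ⟨_, ⟨⟨g, hg⟩, rfl⟩⟩)
    have hcP : IsMulCommutative (P : Subgroup G) := ⟨⟨hab P⟩⟩
    have h1 := H29.Ward.eq_one_of_fixed P hnab hcP (hPS ▸ htS) hnor
    rw [h1, orderOf_one] at ht
    exact absurd ht (by norm_num)
  obtain ⟨m, hm⟩ : ∃ m, m = Fintype.card F - 1 := ⟨_, rfl⟩
  rw [← hm] at hst
  have hpos : 2 ≤ 2 ^ n := Nat.le_self_pow (by omega) 2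
  have hmodd : Odd m := by
    rw [hm, hcard]
    exact Nat.Even.sub_odd (by omega) (Nat.even_pow.2 ⟨even_two, by omega⟩) odd_one
  have hXcard : Nat.card X = 2 * m + 1 := by
    haveI := Fintype.ofFinite S
    rw [Nat.card_eq_fintype_card, Fintype.card_subtype_compl, Fintype.card_subtype_eq,
      ← Nat.card_eq_fintype_card, hScard, hm, hcard, pow_succ]
    omega
  haveI := isPretransitive hodd hmodd hXcard hst hfree hne
  have hm0 : 0 < m := hmodd.pos
  have hpp' := isPrimePow hXcard hst hfree hm0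
  obtain ⟨k', hk'⟩ : ∃ j, n = j + 1 := ⟨n - 1, by omega⟩
  have hmp : 2 * m + 1 = 2 ^ (k' + 2) - 1 := by
    rw [hm, hcard, hk', show k' + 2 = k' + 1 + 1 by omega, pow_succ 2 (k' + 1)]
    have := Nat.le_self_pow (show k' + 1 ≠ 0 by omega) 2
    omega
  have hprime : (2 * m + 1).Prime := hmp ▸ prime_of_isPrimePow (hmp ▸ hpp')
  obtain ⟨k, hk, hz, htr, hinj⟩ := exists_normal_cycle hXcard hst hfree hm0 hprime
  have hle := card_conj_le A.subtype A.subtype_injective hS2 (d := n + 1) hScard k
    (fun x y hx hy => by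
      obtain ⟨g, hg, hgx⟩ := htr ⟨x, hx⟩ ⟨y, hy⟩
      exact ⟨g, hg, congrArg Subtype.val hgx⟩)
    (by rw [hk]; omega) (fun x : MulAction.stabilizer A t' => (x : A)) (fun x => hz _)
    (fun x y h => Subtype.ext (hinj _ _ x.2 y.2 h)) (by omega)
  rw [hst, hm, hcard] at hle
  have hn3 := pow_lt hle
  rw [hcard, show n = 2 by omega]
  norm_num

end Cfsg.Agent.H84.WardEven
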