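import Mathlib

/-!
# Arithmetic finish for the Ree-type order formula (`q = 3 mod 8`)

`A, B, C, E, F` are signed degrees in the principal 2-block, `g` is the group order, and `F = qA`,
`A = -3 mod (q+1)/4` come from the small torus.
-/

namespace Cfsg.Agent.H84.Ward

theorem odd_of_dvd {r q : ℤ} (hq : q % 2 = 1) (h : r ∣ q) : Odd r := by
  obtain ⟨e, rfl⟩ := h
  exact (Int.odd_mul.1 (Int.odd_iff.2 hq)).1

theorem dvd_of_sq_dvd {r q e : ℤ} (hq : q ≠ 0) (h : r ^ 2 ∣ q * (q - e * r)) : r ∣ q := by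
  obtain ⟨u, t, hcop, hr, hu⟩ := exists_gcd_factor r q hq
  obtain ⟨g, rfl, rfl⟩ : ∃ g : ℤ, r = g * t ∧ q = g * u := ⟨_, hr, hu⟩
  have hg : g ≠ 0 := fun e => hq (by rw [e, zero_mul])
  have h1 : t ^ 2 ∣ u * (u - e * t) := by
    refine (mul_dvd_mul_iff_left (pow_ne_zero 2 hg)).1 ?_
    rw [show g ^ 2 * t ^ 2 = (g * t) ^ 2 by ring,
      show g ^ 2 * (u * (u - e * t)) = g * u * (g * u - e * (g * t)) by ring]
    exact h
  have h2 : t ∣ u * u := by
    have h3 := (dvd_pow_self t two_ne_zero).trans h1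
    have := h3.add (dvd_mul_left t (u * e))
    rwa [show u * (u - e * t) + u * e * t = u * u by ring] at this
  have h4 : IsUnit t := (hcop.mul_right hcop).isUnit_of_dvd' dvd_rfl h2
  exact mul_dvd_mul_left g h4.dvd
where
  exists_gcd_factor (r q : ℤ) (hq : q ≠ 0) : ∃ u t : ℤ, IsCoprime t u ∧
      r = (Int.gcd r q : ℤ) * t ∧ q = (Int.gcd r q : ℤ) * u := by
    obtain ⟨t, u, hcop, h1, h2⟩ := Int.exists_gcd_one (m := r) (n := q)
      (Int.gcd_pos_of_ne_zero_right _ hq)
    exact ⟨u, t, Int.isCoprime_iff_gcd_eq_one.2 hcop, by rw [mul_comm]; exact h1,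
      by rw [mul_comm]; exact h2⟩

/-- The value of `h = 1 + A` allowed by the divisibility and the two congruences. -/
theorem classify {m h A E M : ℤ} (hm : 3 ≤ m) (hm2 : Odd m) (hA : A = h - 1) (h8 : h % 8 = 2)
    (hq8 : (4 * m - 1) % 8 = 3) (hE : E = (4 * m - 1) - (4 * m) * h)
    (hG : M * h ^ 2 = -((4 * m - 1) * (4 * m - 2) ^ 2 * A * E)) (hcong : m ∣ h + 2) :
    h = 4 * m - 2 ∨ h = -((4 * m - 1) * (4 * m - 2)) := by
  set q := 4 * m - 1 with hq
  have hh : h ≠ 0 := by omega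
  obtain ⟨r, k, hcop, hr, hk⟩ := Int.exists_gcd_one (m := h) (n := 4 * m - 2)
    (Int.gcd_pos_of_ne_zero_left _ hh)
  have hd0 : (0 : ℤ) ≤ (Int.gcd h (4 * m - 2) : ℕ) := Int.natCast_nonneg _
  generalize ((Int.gcd h (4 * m - 2) : ℕ) : ℤ) = d at hr hk hd0
  have hd : d ≠ 0 := fun e => hh (by rw [hr, e, mul_zero])
  have hrk : IsCoprime r k := Int.isCoprime_iff_gcd_eq_one.2 hcop
  -- `r` divides `q`
  have h1 : r ^ 2 ∣ q * k ^ 2 * A * E := by
    refine (mul_dvd_mul_iff_left (pow_ne_zero 2 hd)).1 ⟨-M, ?_⟩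
    rw [hr, hk] at hG
    linear_combination hG
  have hrA : IsCoprime (r ^ 2) (k ^ 2 * A) := by
    refine IsCoprime.mul_right (hrk.pow) (IsCoprime.pow_left ?_)
    exact ⟨d, -1, by linear_combination -hA - hr⟩
  have h2 : r ^ 2 ∣ q * (q - (4 * m * d) * r) := by
    refine hrA.dvd_of_dvd_mul_right ?_
    rwa [show q * k ^ 2 * A * E = q * (q - 4 * m * d * r) * (k ^ 2 * A) by rw [hE, hr]; ring] at h1
  have hrq : r ∣ q := dvd_of_sq_dvd (by omega) h2
  -- parity
  have hdpar : Odd k ∧ Odd r := by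
    refine ⟨?_, odd_of_dvd (q := q) (by omega) hrq⟩
    by_contra hev
    rw [Int.not_odd_iff_even] at hev
    obtain ⟨k', rfl⟩ := hev
    have : Odd r := odd_of_dvd (q := q) (by omega) hrq
    obtain ⟨r', rfl⟩ := this
    obtain ⟨d', rfl⟩ | ⟨d', rfl⟩ := d.even_or_odd
    · have e : (4 * m - 2) = 4 * (d' * k') := by rw [hk]; ring
      omega
    · have e : h = 2 * (r' * (2 * d' + 1) + d') + 1 := by rw [hr]; ring
      omega
  -- `r = k` modulo `2m`
  have hmd : IsCoprime m d := by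
    refine IsCoprime.of_isCoprime_of_dvd_right (?_ : IsCoprime m (4 * m - 2)) ⟨k, by linarith⟩
    obtain ⟨j, hj⟩ := hm2
    exact ⟨1 - 4 * j, j, by rw [hj]; ring⟩
  have hmrk : m ∣ r - k := by
    refine hmd.dvd_of_dvd_mul_left ?_
    have h9 : m ∣ (h + 2) - 4 * m := dvd_sub hcong (dvd_mul_left m 4)
    rwa [show (h + 2) - 4 * m = d * (r - k) by linear_combination hr - hk] at h9
  obtain ⟨j, hj⟩ : 2 * m ∣ r - k :=
    IsCoprime.mul_dvd (by obtain ⟨i, rfl⟩ := hm2; exact ⟨-i, 1, by ring⟩)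
      (by obtain ⟨a, ha⟩ := hdpar.1; obtain ⟨b, hb⟩ := hdpar.2; exact ⟨b - a, by rw [ha, hb]; ring⟩)
      hmrk
  -- `k` divides `2m - 1`
  have hkdvd : k ∣ 2 * m - 1 := by
    have : IsCoprime k 2 := by
      obtain ⟨a, ha⟩ := hdpar.1
      exact ⟨1, -a, by rw [ha]; ring⟩
    exact this.dvd_of_dvd_mul_left ⟨d, by linarith⟩
  obtain ⟨l, hl⟩ := hkdvd
  obtain ⟨e, he⟩ := hrq
  have hdpos : 0 < d := lt_of_le_of_ne hd0 (Ne.symm hd)
  have hkpos : 0 < k := by nlinarith
  have hlpos : 0 < l := by nlinarith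
  have heodd : Odd e := odd_of_dvd (q := q) (by omega) ⟨r, by rw [he, mul_comm]⟩
  have hlodd : Odd l :=
    odd_of_dvd (q := 2 * m - 1) (by omega) ⟨k, by rw [hl, mul_comm]⟩
  have hde : d = 2 * l := by
    have : k * d = k * (2 * l) := by linarith
    exact mul_left_cancel₀ hkpos.ne' this
  obtain ⟨a, ha⟩ := hlodd
  obtain ⟨b, hb⟩ := heodd
  -- bound the multiplier
  have hke : k = 2 * m - 1 ∨ 3 * k ≤ 2 * m - 1 := by
    rcases (show l = 1 ∨ 3 ≤ l by omega) with h' | h'
    · exact Or.inl (by rw [hl, h', mul_one])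
    · exact Or.inr (by nlinarith)
  have hre : r = q ∨ r = -q ∨ (-q ≤ 3 * r ∧ 3 * r ≤ q) := by
    rcases (show e = 1 ∨ e = -1 ∨ 3 ≤ e ∨ e ≤ -3 by omega) with h' | h' | h' | h'
    · exact Or.inl (by rw [he, h', mul_one])
    · exact Or.inr (Or.inl (by rw [he, h']; ring))
    · exact Or.inr (Or.inr ⟨by nlinarith, by nlinarith⟩)
    · exact Or.inr (Or.inr ⟨by nlinarith, by nlinarith⟩)
  have hrb : -q ≤ r ∧ r ≤ q := by rcases hre with h' | h' | h' <;> omega
  have hkb : k ≤ 2 * m - 1 := by rcases hke with h' | h' <;> omega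
  have hj3 : -3 ≤ j ∧ j ≤ 1 := by
    refine ⟨?_, ?_⟩ <;> by_contra hc
    · nlinarith [mul_le_mul_of_nonneg_left (show j ≤ -4 by omega) (show (0 : ℤ) ≤ 2 * m by omega)]
    · nlinarith [mul_le_mul_of_nonneg_left (show 2 ≤ j by omega) (show (0 : ℤ) ≤ 2 * m by omega)]
  rcases (show j = -3 ∨ j = -2 ∨ j = -1 ∨ j = 0 ∨ j = 1 by omega) with h' | h' | h' | h' | h' <;>
    subst h'
  · exfalso; rcases hre with h' | h' | h' <;> rcases hke with h'' | h'' <;> omega
  · rcases hke with h'' | h''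
    · exfalso; rcases hre with h' | h' | h' <;> omega
    · right
      have : r = -q := by rcases hre with h' | h' | h' <;> omega
      have hk1 : k = 1 := by omega
      rw [hr, this]; subst hk1
      linear_combination q * hk
  · exfalso
    rcases hke with h'' | h''
    · have : r = -1 := by omega
      have : h = -2 := by
        rw [hr, this]
        have : l = 1 := by nlinarith
        omega
      omega
    · rcases hre with h' | h' | h' <;> omega
  · left
    have hkr : k = r := by omega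
    have : k ∣ q - (4 * m - 2) := (Dvd.intro e (by rw [hkr, he])).sub ⟨d, by linarith⟩
    have hk1 : k = 1 := Int.eq_one_of_dvd_one hkpos.le (by convert this using 1; omega)
    subst hk1
    rw [hr, ← hkr, one_mul]; linarith
  · exfalso
    rcases hke with h'' | h''
    · have : r = q := by omega
      have h2 : l = 1 := by nlinarith
      have : h = 2 * q := by rw [hr, this, hde, h2]; ring
      omega
    · rcases hre with h' | h' | h' <;> omega

/-- The two block equations with the torus information give `q = 3^(2n+1)` and the Ree order. -/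
theorem ree_finish {p a q : ℕ} (hp : p.Prime) (hq : q = p ^ a) (hq8 : q % 8 = 3) (hq11 : 11 ≤ q)
    {g M A B C E F : ℤ} (hg : g = (q : ℤ) * ((q : ℤ) ^ 2 - 1) * M) (hA0 : A ≠ 0) (hA8 : A % 8 = 1)
    (hEF : E + F = -(1 + A)) (hF : F = q * A) (hBC : B + C = 1 + A)
    (hG : g * (1 + A) * (E * F - (q : ℤ) ^ 2 * A) =
      ((q : ℤ) * ((q : ℤ) ^ 2 - 1)) ^ 2 * ((q : ℤ) - 1) * (A * (E * F)))
    (h2 : 4 * (B * C) * ((q : ℤ) ^ 2 * ((q : ℤ) ^ 2 - 1) * A +
        (3 * (q : ℤ) - 1) * (E * F - (q : ℤ) ^ 2 * A)) =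
      ((q : ℤ) - 1) ^ 2 * ((q : ℤ) ^ 2 - 1) * (A * (E * F)))
    (hcong : ((q : ℤ) + 1) ∣ 4 * (A + 3)) :
    ∃ n : ℕ, 1 ≤ n ∧ q = 3 ^ (2 * n + 1) ∧ g = (q : ℤ) ^ 3 * ((q : ℤ) ^ 3 + 1) * ((q : ℤ) - 1) := by
  set Q : ℤ := (q : ℤ) with hQ
  have hQ11 : 11 ≤ Q := by rw [hQ]; exact_mod_cast hq11
  obtain ⟨m, hm⟩ : ∃ m : ℤ, Q + 1 = 4 * m := ⟨(Q + 1) / 4, by omega⟩
  have hE : E = Q - (Q + 1) * (1 + A) := by rw [hF] at hEF; linarith
  have hPQ : E * F - Q ^ 2 * A = -(Q * A * (Q + 1) * (1 + A)) := by rw [hE, hF]; ring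
  have hQA : Q * A * (Q + 1) ≠ 0 := mul_ne_zero (mul_ne_zero (by omega) hA0) (by omega)
  have hM : M * (1 + A) ^ 2 = -(Q * (Q - 1) ^ 2 * A * E) := by
    have h0 : (Q * A * (Q + 1)) * (Q * (Q ^ 2 - 1)) ≠ 0 :=
      mul_ne_zero hQA (mul_ne_zero (by omega) (by nlinarith))
    refine mul_left_cancel₀ h0 ?_
    rw [hPQ, hg, hF] at hG
    linear_combination -hG
  have hbr : 4 * (B * C) * (Q * (Q - 1) - (3 * Q - 1) * (1 + A)) = (Q - 1) ^ 3 * (A * E) := by
    refine mul_left_cancel₀ hQA ?_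
    rw [hPQ, hF] at h2
    linear_combination h2
  have hQm : Q = 4 * m - 1 := by omega
  clear_value Q
  subst hQm
  have hcl := classify (m := m) (h := 1 + A) (A := A) (E := E) (M := M) (by omega)
    (Int.odd_iff.2 (by omega)) (by ring) (by omega) (by omega)
    (by linear_combination hE) (by convert hM using 3; ring)
    ((mul_dvd_mul_iff_left (by norm_num : (4 : ℤ) ≠ 0)).1 (by
      rw [show 4 * (1 + A + 2) = 4 * (A + 3) by ring, ← hm]; exact hcong))
  generalize 4 * m - 1 = Q at *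
  rcases hcl with h | h
  · exfalso
    obtain rfl : A = Q - 2 := by omega
    obtain rfl : E = Q + 1 - Q ^ 2 := by linear_combination hE
    have hle : 4 * (B * C) ≤ (Q - 1) ^ 2 := by
      have : B + C = Q - 1 := by linarith
      nlinarith [sq_nonneg (B - C)]
    have e : 4 * (B * C) * (1 - 2 * Q) = (Q - 1) ^ 2 * ((Q - 2) * (Q + 1 - Q ^ 2)) := by
      refine mul_left_cancel₀ (by omega : Q - 1 ≠ 0) ?_
      linear_combination hbr
    nlinarith [mul_le_mul_of_nonneg_right hle (by omega : (0 : ℤ) ≤ 2 * Q - 1)]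
  · obtain rfl : A = -(Q ^ 2 - Q + 1) := by
      linear_combination h + Q * hm
    obtain rfl : E = Q ^ 3 := by linear_combination hE
    have hQ1 : Q - 1 ≠ 0 := by omega
    have h12 : 3 * (4 * (B * C)) = -((Q - 1) ^ 2 * (Q * (Q ^ 2 - Q + 1))) := by
      refine mul_left_cancel₀ (mul_ne_zero (pow_ne_zero 2 (by omega : Q ≠ 0)) hQ1) ?_
      linear_combination hbr
    have hsq : 3 * (B - C) ^ 2 = Q * ((Q - 1) * (Q + 1)) ^ 2 := by
      linear_combination -h12 +
        3 * (B + C + (1 + -(Q ^ 2 - Q + 1))) * hBC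
    have hgval : g = Q ^ 3 * (Q ^ 3 + 1) * (Q - 1) := by
      have hMv : M = Q ^ 2 * (Q ^ 2 - Q + 1) := by
        refine mul_right_cancel₀ (pow_ne_zero 2 (mul_ne_zero (by omega : Q ≠ 0) hQ1)) ?_
        linear_combination hM
      rw [hg, hMv]; ring
    -- `q / 3` is a square
    have hn := congrArg Int.natAbs hsq
    simp only [Int.natAbs_mul, Int.natAbs_pow] at hn
    set u := (B - C).natAbs
    set w := (Q - 1).natAbs * (Q + 1).natAbs
    have hw : w ≠ 0 := mul_ne_zero (by omega) (by omega)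
    have hu : u ≠ 0 := fun e => by simp [e] at hn; omega
    have hQn : Q.natAbs = p ^ a := by rw [← hq]; omega
    rw [hQn] at hn
    have h3 := congrArg (fun x => x.factorization 3) hn
    simp only [Int.reduceAbs] at h3
    rw [Nat.factorization_mul (by norm_num) (pow_ne_zero 2 hu),
      Nat.factorization_mul (pow_ne_zero a hp.ne_zero) (pow_ne_zero 2 hw), Nat.factorization_pow,
      Nat.factorization_pow, Nat.factorization_pow] at h3
    simp only [Finsupp.add_apply, Finsupp.smul_apply, smul_eq_mul, hp.factorization,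
      Nat.prime_three.factorization, Finsupp.single_apply] at h3
    by_cases hp3 : p = 3
    · subst hp3
      simp only [if_pos] at h3
      refine ⟨a / 2, ?_, ?_, hgval⟩
      · by_contra hc
        have : a = 1 := by omega
        subst this; omega
      · rw [hq]; congr 1; omega
    · rw [if_neg hp3] at h3; simp at h3; omega

end Cfsg.Agent.H84.Ward
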