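import Mathlib

/-!
# Transitive groups with cyclic one-point-fixing stabilisers on `2 ^ (n + 1) - 1` points

The arithmetical core of the even case of Ward's theorem: an odd-order group of automorphisms of an
elementary abelian group of order `2q`, whose stabiliser of an involution has order `q - 1` and is
semiregular on the other involutions, forces `q = 4`.
-/

set_option autoImplicit false
set_option linter.unusedSectionVars false
set_option linter.style.haveILetI false

namespace Cfsg.Agent.H84.WardEven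

open MulAction

section Act

variable {A X : Type*} [Group A] [Finite A] [MulAction A X] [Finite X] {t : X} {m : ℕ}

/-- The orbit of `t` is everything. -/
theorem isPretransitive (hodd : Odd (Nat.card A)) (hm : Odd m) (hX : Nat.card X = 2 * m + 1)
    (hst : Nat.card (stabilizer A t) = m)
    (hfree : ∀ a : A, a • t = t → ∀ x, x ≠ t → a • x = x → a = 1)
    (hne : ∃ a : A, a • t ≠ t) : IsPretransitive A X := by
  classical
  haveI := Fintype.ofFinite X
  haveI := Fintype.ofFinite A
  set O : Finset X := (orbit A t).toFinset with hO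
  have htO : t ∈ O := by rw [hO, Set.mem_toFinset]; exact mem_orbit_self t
  have hOodd : Odd O.card := by
    refine Odd.of_dvd_nat hodd ?_
    rw [hO, Set.toFinset_card, ← Nat.card_eq_fintype_card,
      ← Subgroup.index_mul_card (stabilizer A t), index_stabilizer]
    simp [Set.ncard_eq_toFinset_card', Nat.card_eq_fintype_card]
  let P : X → Finset X := fun x => Finset.univ.image (fun a : stabilizer A t => (a : A) • x)
  have hP : ∀ x, x ≠ t → (P x).card = m := by
    intro x hx
    rw [Finset.card_image_of_injective, Finset.card_univ, ← Nat.card_eq_fintype_card, hst]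
    intro a b (hab : (a : A) • x = (b : A) • x)
    have h1 : ((b : A)⁻¹ * a) • x = x := by rw [mul_smul, hab, inv_smul_smul]
    have h2 : ((b : A)⁻¹ * a) • t = t := mem_stabilizer_iff.1 ((b⁻¹ * a).2)
    exact Subtype.ext (inv_mul_eq_one.1 (hfree _ h2 x hx h1)).symm
  have hPt : ∀ x, x ≠ t → t ∉ P x := by
    intro x hx h
    obtain ⟨a, -, ha⟩ := Finset.mem_image.1 h
    exact hx (smul_left_cancel (a : A) (ha.trans (mem_stabilizer_iff.1 a.2).symm))
  have hPO : ∀ x ∈ O, P x ⊆ O := by
    intro x hx y hy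
    obtain ⟨a, -, rfl⟩ := Finset.mem_image.1 hy
    rw [hO, Set.mem_toFinset] at hx ⊢
    exact mem_orbit_of_mem_orbit _ hx
  obtain ⟨g, hg⟩ := hne
  have hgO : g • t ∈ O := by rw [hO, Set.mem_toFinset]; exact mem_orbit t g
  have h1 : insert t (P (g • t)) ⊆ O := Finset.insert_subset htO (hPO _ hgO)
  have hc1 : (insert t (P (g • t))).card = m + 1 := by
    rw [Finset.card_insert_of_notMem (hPt _ hg), hP _ hg]
  obtain ⟨y, hyO, hy⟩ : ∃ y ∈ O, y ∉ insert t (P (g • t)) := by
    by_contra hc
    push Not at hc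
    have h2 : O.card = m + 1 := by rw [← hc1, Finset.Subset.antisymm hc h1]
    rw [h2] at hOodd
    exact Nat.not_odd_iff_even.2 hm.add_one hOodd
  rw [Finset.mem_insert, not_or] at hy
  have hdis : Disjoint (insert t (P (g • t))) (P y) := by
    rw [Finset.disjoint_left]
    intro z hz hzy
    rcases Finset.mem_insert.1 hz with rfl | hz
    · exact hPt _ hy.1 hzy
    · obtain ⟨a, -, ha⟩ := Finset.mem_image.1 hz
      obtain ⟨b, -, hb⟩ := Finset.mem_image.1 hzy
      refine hy.2 (Finset.mem_image.2 ⟨b⁻¹ * a, Finset.mem_univ _, ?_⟩)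
      rw [Subgroup.coe_mul, mul_smul, ha, ← hb, Subgroup.coe_inv, inv_smul_smul]
  have hsub : insert t (P (g • t)) ∪ P y ⊆ O := Finset.union_subset h1 (hPO _ hyO)
  have hcard := Finset.card_le_card hsub
  rw [Finset.card_union_of_disjoint hdis, hc1, hP _ hy.1] at hcard
  have hall : O = Finset.univ := Finset.eq_univ_of_card _ (by
    have := Finset.card_le_univ O
    rw [← Nat.card_eq_fintype_card, hX] at this ⊢
    omega)
  have hmem : ∀ x : X, ∃ a : A, a • t = x := fun x => by
    have : x ∈ O := hall ▸ Finset.mem_univ x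
    rw [hO, Set.mem_toFinset] at this
    exact this
  refine ⟨fun x y => ?_⟩
  obtain ⟨a, rfl⟩ := hmem x
  obtain ⟨b, rfl⟩ := hmem y
  exact ⟨b * a⁻¹, by rw [mul_smul, inv_smul_smul]⟩

variable [IsPretransitive A X]

theorem unique_fix (hfree : ∀ a : A, a • t = t → ∀ x, x ≠ t → a • x = x → a = 1) {a : A}
    (ha : a ≠ 1) {x y : X} (hx : a • x = x) (hy : a • y = y) : x = y := by
  obtain ⟨g, rfl⟩ := exists_smul_eq A t x
  by_contra hne
  have h1 : (g⁻¹ * a * g) • t = t := by rw [mul_smul, mul_smul, hx, inv_smul_smul]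
  have h2 : g⁻¹ • y ≠ t := fun h => hne (by rw [← h, smul_inv_smul])
  have h3 : (g⁻¹ * a * g) • (g⁻¹ • y) = g⁻¹ • y := by
    rw [mul_smul, mul_smul, smul_inv_smul, hy]
  have h4 := hfree _ h1 _ h2 h3
  refine ha ?_
  calc a = g * (g⁻¹ * a * g) * g⁻¹ := by group
    _ = 1 := by rw [h4, mul_one, mul_inv_cancel]

theorem card_group_eq (hst : Nat.card (stabilizer A t) = m) :
    Nat.card A = Nat.card X * m := by
  rw [← hst, ← index_stabilizer_of_transitive A t, Subgroup.index_mul_card]

theorem card_stabilizer_eq (hst : Nat.card (stabilizer A t) = m) (x : X) :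
    Nat.card (stabilizer A x) = m := by
  have h1 := card_group_eq hst
  rw [← Subgroup.index_mul_card (stabilizer A x), index_stabilizer_of_transitive A x] at h1
  exact Nat.eq_of_mul_eq_mul_left (Nat.card_pos_iff.2 ⟨⟨t⟩, inferInstance⟩) h1

variable (hX : Nat.card X = 2 * m + 1) (hst : Nat.card (stabilizer A t) = m)
  (hfree : ∀ a : A, a • t = t → ∀ x, x ≠ t → a • x = x → a = 1)
include hX hst hfree

/-- There are `2m` fixed-point-free elements. -/
theorem card_derangements (hm0 : 0 < m) :
    Nat.card {a : A // ∀ x : X, a • x ≠ x} = 2 * m := by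
  classical
  haveI := Fintype.ofFinite X
  haveI := Fintype.ofFinite A
  haveI : Subsingleton (orbitRel.Quotient A X) := by
    refine ⟨fun u v => ?_⟩
    induction u using Quotient.inductionOn'
    induction v using Quotient.inductionOn'
    exact Quotient.sound' (exists_smul_eq A _ _)
  have hb := sum_card_fixedBy_eq_card_orbits_mul_card_group A X
  have h1 : Fintype.card (orbitRel.Quotient A X) = 1 :=
    Fintype.card_eq_one_iff.2 ⟨⟦t⟧, fun u => Subsingleton.elim _ _⟩
  rw [h1, one_mul] at hb
  have hfb : ∀ a : A, Fintype.card (fixedBy X a) =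
      (if a = 1 then Fintype.card X - 1 else 0) + (if ∀ x : X, a • x ≠ x then 0 else 1) := by
    intro a
    split_ifs with ha hd hd
    · exact absurd (by rw [ha, one_smul]) (hd t)
    · subst ha
      have : fixedBy X (1 : A) = Set.univ := by ext x; simp
      rw [Fintype.card_congr (Equiv.setCongr this), Fintype.card_congr (Equiv.Set.univ X)]
      have : 0 < Fintype.card X := Fintype.card_pos_iff.2 ⟨t⟩
      omega
    · rw [Fintype.card_eq_zero_iff]
      exact ⟨fun x => hd x.1 x.2⟩
    · push Not at hd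
      obtain ⟨x, hx⟩ := hd
      refine Fintype.card_eq_one_iff.2 ⟨⟨x, hx⟩, fun y => Subtype.ext ?_⟩
      exact unique_fix hfree ha y.2 hx
  rw [Finset.sum_congr rfl (fun a _ => hfb a), Finset.sum_add_distrib, Finset.sum_ite_eq'] at hb
  simp only [Finset.mem_univ, if_true] at hb
  rw [Finset.sum_ite, Finset.sum_const_zero, zero_add, Finset.sum_const, smul_eq_mul,
    mul_one] at hb
  rw [Nat.card_eq_fintype_card, Fintype.card_subtype]
  have hpart := Finset.card_filter_add_card_filter_not (s := (Finset.univ : Finset A))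
    (p := fun a => ∀ x : X, a • x ≠ x)
  rw [Finset.card_univ] at hpart
  rw [← Nat.card_eq_fintype_card] at hpart hb
  rw [← Nat.card_eq_fintype_card, hX] at hb
  omega

theorem centralizer_le (k : A) (hk : ∀ x : X, k • x ≠ x) :
    Nat.card (Subgroup.centralizer ({k} : Set A)) ≤ 2 * m + 1 := by
  rw [← hX]
  refine Nat.card_le_card_of_injective (fun c => (c : A) • t) ?_
  intro c d (h : (c : A) • t = (d : A) • t)
  have h1 : ((d : A)⁻¹ * c) • t = t := by rw [mul_smul, h, inv_smul_smul]
  have hc : ((d⁻¹ * c : Subgroup.centralizer ({k} : Set A)) : A) * k = k * ((d⁻¹ * c :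
      Subgroup.centralizer ({k} : Set A)) : A) :=
    Subgroup.mem_centralizer_singleton_iff.1 (d⁻¹ * c).2
  rw [Subgroup.coe_mul, Subgroup.coe_inv] at hc
  have h2 : ((d : A)⁻¹ * c) • (k • t) = k • t := by rw [← mul_smul, hc, mul_smul, h1]
  exact Subtype.ext (inv_mul_eq_one.1 (hfree _ h1 _ (hk t) h2)).symm

/-- An element of order dividing `2m + 1` other than `1` is fixed-point-free. -/
theorem derangement_of_coprime {k : A} (hk : orderOf k ∣ 2 * m + 1) (hk1 : k ≠ 1) (x : X) :
    k • x ≠ x := fun h => by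
  have h1 : orderOf k ∣ m := card_stabilizer_eq hst x ▸
    (stabilizer A x).orderOf_dvd_natCard (mem_stabilizer_iff.2 h)
  have h2 : orderOf k ∣ 1 := (Nat.dvd_add_right (h1.mul_left 2)).1 hk
  exact hk1 (orderOf_eq_one_iff.1 (Nat.dvd_one.1 h2))

/-- `2m + 1` is a prime power. -/
theorem isPrimePow (hm0 : 0 < m) : IsPrimePow (2 * m + 1) := by
  classical
  rw [isPrimePow_iff_unique_prime_dvd]
  obtain ⟨r, hr, hrd⟩ := Nat.exists_prime_and_dvd (n := 2 * m + 1) (by omega)
  refine ⟨r, ⟨hr, hrd⟩, fun s ⟨hs, hsd⟩ => ?_⟩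
  by_contra hne
  have hcard := card_group_eq (X := X) hst
  rw [hX] at hcard
  haveI := Fact.mk hr
  haveI := Fact.mk hs
  obtain ⟨a, ha⟩ := exists_prime_orderOf_dvd_card' (G := A) r (hcard ▸ hrd.mul_right m)
  obtain ⟨b, hb⟩ := exists_prime_orderOf_dvd_card' (G := A) s (hcard ▸ hsd.mul_right m)
  have hD : ∀ k : A, orderOf k ∣ 2 * m + 1 → k ≠ 1 → ∀ x : X, k • x ≠ x :=
    fun k h1 h2 => derangement_of_coprime hX hst hfree h1 h2
  have hne1 : ∀ (k : A) (p : ℕ), p.Prime → orderOf k = p → k ≠ 1 := fun k p hp h h1 =>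
    hp.ne_one (by rw [← h, h1, orderOf_one])
  have hDconj : ∀ (k : A), (∀ x : X, k • x ≠ x) → ∀ j ∈ MulAction.orbit (ConjAct A) k,
      (∀ x : X, j • x ≠ x) ∧ orderOf j = orderOf k := by
    rintro k hk _ ⟨g, rfl⟩
    refine ⟨fun x hx => hk ((ConjAct.ofConjAct g)⁻¹ • x) ?_, ?_⟩
    · simp only [ConjAct.smul_def, mul_smul] at hx
      rw [← smul_left_cancel_iff (ConjAct.ofConjAct g), hx, smul_inv_smul]
    · simp only [ConjAct.smul_def]
      exact ((SemiconjBy.conj_mk (ConjAct.ofConjAct g) k).orderOf_eq).symm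
  have horb : ∀ k : A, (∀ x : X, k • x ≠ x) →
      Nat.card (MulAction.orbit (ConjAct A) k) * Nat.card (Subgroup.centralizer ({k} : Set A)) =
        (2 * m + 1) * m := by
    intro k hk
    rw [← hcard]
    have := Subgroup.index_mul_card (stabilizer (ConjAct A) k)
    rw [index_stabilizer, ← Nat.card_coe_set_eq, ConjAct.stabilizer_eq_centralizer,
      ← Nat.card_congr ConjAct.toConjAct.toEquiv] at this
    exact this
  have hge : ∀ k : A, (∀ x : X, k • x ≠ x) → m ≤ Nat.card (MulAction.orbit (ConjAct A) k) := by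
    intro k hk
    by_contra hlt
    push Not at hlt
    have h1 := horb k hk
    have h2 := centralizer_le hX hst hfree k hk
    have h3 := Nat.mul_le_mul_left (Nat.card (MulAction.orbit (ConjAct A) k)) h2
    have h4 := Nat.mul_lt_mul_of_pos_right hlt (show 0 < 2 * m + 1 by omega)
    nlinarith
  have hda := hD a (ha ▸ hrd) (hne1 a r hr ha)
  have hdb := hD b (hb ▸ hsd) (hne1 b s hs hb)
  set D : Set A := {c | ∀ x : X, c • x ≠ x}
  set Oa : Set A := MulAction.orbit (ConjAct A) a
  set Ob : Set A := MulAction.orbit (ConjAct A) b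
  have hsub : Oa ∪ Ob ⊆ D := by
    rintro c (hc | hc)
    · exact (hDconj a hda c hc).1
    · exact (hDconj b hdb c hc).1
  have hdis : Disjoint Oa Ob := by
    rw [Set.disjoint_left]
    intro c hc hc'
    exact hne (by rw [← ha, ← hb, ← (hDconj a hda c hc).2, (hDconj b hdb c hc').2])
  have hDc : D.ncard = 2 * m := by
    rw [← Nat.card_coe_set_eq]; exact card_derangements hX hst hfree hm0
  have h1 := Set.ncard_le_ncard hsub D.toFinite
  rw [Set.ncard_union_eq hdis Oa.toFinite Ob.toFinite, hDc] at h1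
  have ha' : m ≤ Oa.ncard := by rw [← Nat.card_coe_set_eq]; exact hge a hda
  have hb' : m ≤ Ob.ncard := by rw [← Nat.card_coe_set_eq]; exact hge b hdb
  have heq : Oa ∪ Ob = D := Set.eq_of_subset_of_ncard_le hsub
    (by rw [Set.ncard_union_eq hdis Oa.toFinite Ob.toFinite, hDc]; omega) D.toFinite
  have hCa : Nat.card (Subgroup.centralizer ({a} : Set A)) = 2 * m + 1 := by
    have h2 := horb a hda
    have h3 : Nat.card Oa = m := by rw [Nat.card_coe_set_eq]; omega
    rw [h3, mul_comm (2 * m + 1) m] at h2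
    exact Nat.eq_of_mul_eq_mul_left hm0 h2
  obtain ⟨c, hc⟩ := exists_prime_orderOf_dvd_card'
    (G := Subgroup.centralizer ({a} : Set A)) s (hCa ▸ hsd)
  rw [← Subgroup.orderOf_coe] at hc
  have hco : Commute a (c : A) := (Subgroup.mem_centralizer_singleton_iff.1 c.2).symm
  have hrs : r.Coprime s := (Nat.coprime_primes hr hs).2 fun h => hne h.symm
  have hord : orderOf (a * (c : A)) = r * s := by
    rw [hco.orderOf_mul_eq_mul_orderOf_of_coprime (by rw [ha, hc]; exact hrs), ha, hc]
  have hmem : a * (c : A) ∈ D := hD _ (hord ▸ hrs.mul_dvd_of_dvd_of_dvd hrd hsd) fun h => by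
    rw [h, orderOf_one] at hord
    exact hr.ne_one (Nat.eq_one_of_mul_eq_one_right hord.symm)
  rw [← heq] at hmem
  rcases hmem with h | h
  · have := (hDconj a hda _ h).2
    rw [hord, ha] at this
    exact hs.ne_one (Nat.eq_of_mul_eq_mul_left hr.pos (this.trans (mul_one r).symm))
  · have := (hDconj b hdb _ h).2
    rw [hord, hb] at this
    exact hr.ne_one (Nat.eq_of_mul_eq_mul_right hs.pos (this.trans (one_mul s).symm))

/-- A prime number of points: the fixed-point-free elements form, with `1`, a cyclic subgroup. -/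
theorem exists_normal_cycle (hm0 : 0 < m) (hp : (2 * m + 1).Prime) :
    ∃ k : A, orderOf k = 2 * m + 1 ∧ (∀ a : A, a * k * a⁻¹ ∈ Subgroup.zpowers k) ∧
      (∀ x y : X, ∃ g ∈ Subgroup.zpowers k, g • x = y) ∧
      ∀ a b : A, a • t = t → b • t = t → a * k * a⁻¹ = b * k * b⁻¹ → a = b := by
  classical
  haveI := Fact.mk hp
  obtain ⟨k, hk⟩ := exists_prime_orderOf_dvd_card' (G := A) (2 * m + 1)
    (by rw [card_group_eq (X := X) hst, hX]; exact dvd_mul_right _ _)
  have hkD : ∀ g ∈ Subgroup.zpowers k, g ≠ 1 → ∀ x : X, g • x ≠ x := fun g hg hg1 =>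
    derangement_of_coprime hX hst hfree
      ((orderOf_dvd_of_mem_zpowers hg).trans (dvd_of_eq hk)) hg1
  set D : Set A := {c | ∀ x : X, c • x ≠ x}
  have hDc : D.ncard = 2 * m := by
    rw [← Nat.card_coe_set_eq]; exact card_derangements hX hst hfree hm0
  have heq : (Subgroup.zpowers k : Set A) \ {1} = D := by
    refine Set.eq_of_subset_of_ncard_le (fun g hg => hkD g hg.1 hg.2) ?_ D.toFinite
    rw [hDc, Set.ncard_diff_singleton_of_mem (one_mem _), ← Nat.card_coe_set_eq]
    change 2 * m ≤ Nat.card (Subgroup.zpowers k) - 1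
    rw [Nat.card_zpowers, hk]; omega
  have hk1 : k ≠ 1 := fun h => hp.ne_one (by rw [← hk, h, orderOf_one])
  have hkd := hkD k (Subgroup.mem_zpowers k) hk1
  refine ⟨k, hk, fun a => ?_, fun x y => ?_, fun a b ha hb hab => ?_⟩
  · have : a * k * a⁻¹ ∈ D := fun x hx => hkd (a⁻¹ • x) (by
      rw [mul_smul, mul_smul] at hx
      rw [← smul_left_cancel_iff a, hx, smul_inv_smul])
    rw [← heq] at this
    exact this.1
  · haveI := Fintype.ofFinite X
    have hinj : Function.Injective (fun g : Subgroup.zpowers k => (g : A) • x) := by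
      intro g h (hgh : (g : A) • x = (h : A) • x)
      by_contra hne
      refine hkD ((h : A)⁻¹ * g) (mul_mem (inv_mem h.2) g.2)
        (fun e => hne (Subtype.ext (inv_mul_eq_one.1 e).symm)) x ?_
      rw [mul_smul, hgh, inv_smul_smul]
    have hsur := (Nat.bijective_iff_injective_and_card _).2 ⟨hinj, by
      rw [Nat.card_zpowers, hk, hX]⟩
    obtain ⟨g, hg⟩ := hsur.2 y
    exact ⟨g, g.2, hg⟩
  · have h1 : (b⁻¹ * a) • t = t := by
      rw [mul_smul, ha]
      conv_lhs => rw [← hb, inv_smul_smul]
    have h2 : (b⁻¹ * a) * k = k * (b⁻¹ * a) := by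
      calc (b⁻¹ * a) * k = b⁻¹ * (a * k * a⁻¹) * a := by group
        _ = k * (b⁻¹ * a) := by rw [hab]; group
    have h3 : (b⁻¹ * a) • (k • t) = k • t := by rw [← mul_smul, h2, mul_smul, h1]
    exact (inv_mul_eq_one.1 (hfree _ h1 _ (hkd t) h3)).symm

end Act

section Num

theorem prime_of_isPrimePow {n : ℕ} (h : IsPrimePow (2 ^ (n + 2) - 1)) :
    (2 ^ (n + 2) - 1).Prime := by
  obtain ⟨r, a, hr, ha, he⟩ := h
  rw [← Nat.prime_iff] at hr
  have h4 : r ^ a + 1 = 2 ^ (n + 2) := by
    have := Nat.one_le_two_pow (n := n + 2); omega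
  have hro : Odd r := by
    refine hr.odd_of_ne_two fun h2 => ?_
    have h5 : 2 ∣ r ^ a + 1 := by rw [h4]; exact dvd_pow_self 2 (by omega)
    have h6 : 2 ∣ r ^ a := by rw [h2]; exact dvd_pow_self 2 (by omega)
    have := (Nat.dvd_add_right h6).1 h5
    omega
  rcases Nat.even_or_odd a with hev | hod
  · exfalso
    obtain ⟨c, hc⟩ := hev
    obtain ⟨d, hd⟩ := hro.pow (n := c)
    have hsq : r ^ a = 4 * (d * d + d) + 1 := by rw [hc, pow_add, hd]; ring
    have h5 : (4 : ℕ) ∣ r ^ a + 1 := by
      rw [h4, show (4 : ℕ) = 2 ^ 2 from rfl]; exact pow_dvd_pow 2 (by omega)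
    omega
  · have hS : (r + 1) * (∑ i ∈ Finset.range a, (-(r : ℤ)) ^ i).natAbs = r ^ a + 1 := by
      have := geom_sum_mul_neg (-(r : ℤ)) a
      rw [hod.neg_pow, sub_neg_eq_add, sub_neg_eq_add] at this
      have h := congrArg Int.natAbs this
      rw [Int.natAbs_mul] at h
      rw [show (1 + (r : ℤ)).natAbs = r + 1 by omega] at h
      rw [mul_comm, h]
      have : (1 + (r : ℤ) ^ a).natAbs = r ^ a + 1 := by
        rw [show 1 + (r : ℤ) ^ a = ((r ^ a + 1 : ℕ) : ℤ) by push_cast; ring, Int.natAbs_natCast]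
      exact this
    have hSodd : Odd (∑ i ∈ Finset.range a, (-(r : ℤ)) ^ i).natAbs := by
      rw [Int.natAbs_odd]
      have hr2 : ((r : ℤ) : ZMod 2) = 1 := by
        rw [Int.cast_natCast]; exact ZMod.natCast_eq_one_iff_odd.2 hro
      rw [← ZMod.intCast_eq_one_iff_odd]
      push_cast
      rw [Int.cast_natCast] at hr2
      simp only [hr2, ZMod.neg_eq_self_mod_two, one_pow, Finset.sum_const, Finset.card_range,
        nsmul_one]
      exact ZMod.natCast_eq_one_iff_odd.2 hod
    have hd : (∑ i ∈ Finset.range a, (-(r : ℤ)) ^ i).natAbs ∣ 2 ^ (n + 2) :=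
      h4 ▸ hS ▸ dvd_mul_left _ _
    obtain ⟨i, -, hi⟩ := (Nat.dvd_prime_pow Nat.prime_two).1 hd
    rcases Nat.eq_zero_or_pos i with rfl | hipos
    · rw [hi, pow_zero, mul_one] at hS
      have : r ^ a = r ^ 1 := by rw [pow_one]; omega
      have := Nat.pow_right_injective hr.two_le this
      subst this
      rw [pow_one] at he
      rwa [← he]
    · exfalso
      rw [hi] at hSodd
      exact Nat.not_odd_iff_even.2 (Nat.even_pow.2 ⟨even_two, by omega⟩) hSodd

end Num

section Lin

open Polynomial

variable {V : Type*} [CommGroup V] [Finite V]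

/-- At most `d` distinct conjugates of a transitive operator lie in the group it generates. -/
theorem card_conj_le {A : Type*} [Group A] (ρ : A →* MulAut V) (hρ : Function.Injective ρ)
    (hV2 : ∀ v : V, v * v = 1) {d : ℕ} (hd : Nat.card V = 2 ^ d) (k : A)
    (htr : ∀ x y : V, x ≠ 1 → y ≠ 1 → ∃ g ∈ Subgroup.zpowers k, ρ g x = y) (hk : 0 < orderOf k)
    {ι : Type*} [Finite ι] (a : ι → A)
    (hz : ∀ i, a i * k * (a i)⁻¹ ∈ Subgroup.zpowers k)
    (hinj : Function.Injective fun i => a i * k * (a i)⁻¹) (hd0 : 0 < d) :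
    Nat.card ι ≤ d := by
  classical
  haveI := Fintype.ofFinite ι
  letI : Module (ZMod 2) (Additive V) := AddCommGroup.zmodModule fun x => by
    rw [two_nsmul]; exact congrArg Additive.ofMul (hV2 x.toMul)
  let lin : A →* Module.End (ZMod 2) (Additive V) :=
    { toFun := fun g => (MonoidHom.toAdditive (ρ g).toMonoidHom).toZModLinearMap 2
      map_one' := by ext x; simp
      map_mul' := fun g h => by ext x; simp }
  have lin_apply : ∀ g (x : Additive V), lin g x = Additive.ofMul (ρ g x.toMul) := fun g x => rfl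
  have lin_inj : Function.Injective lin := fun g h e => hρ (MulEquiv.ext fun v =>
    Additive.ofMul.injective (DFunLike.congr_fun e (Additive.ofMul v)))
  set f := lin k with hf
  let K := Algebra.adjoin (ZMod 2) ({f} : Set (Module.End (ZMod 2) (Additive V)))
  have hpow : ∀ g ∈ Subgroup.zpowers k, lin g ∈ K := by
    intro g hg
    have hfin : IsOfFinOrder k := orderOf_pos_iff.1 hk
    obtain ⟨i, rfl⟩ := Submonoid.mem_powers_iff _ _ |>.1 (hfin.mem_powers_iff_mem_zpowers.2 hg)
    rw [map_pow]
    exact pow_mem (Algebra.self_mem_adjoin_singleton _ f) i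
  have hcomm : ∀ x ∈ K, ∀ y ∈ K, x * y = y * x := fun x hx y hy => by
    have hy' : y * f = f * y :=
      (Algebra.commute_of_mem_adjoin_singleton_of_commute hy (Commute.refl f)).symm
    exact (Algebra.commute_of_mem_adjoin_singleton_of_commute hx (show Commute y f from hy')).symm
  have hzero : ∀ x ∈ K, ∀ w : Additive V, w ≠ 0 → x w = 0 → x = 0 := by
    intro x hx w hw hxw
    refine LinearMap.ext fun z => ?_
    rcases eq_or_ne z 0 with rfl | hz'
    · rw [map_zero, LinearMap.zero_apply]
    · obtain ⟨g, hg, hgz⟩ := htr w.toMul z.toMul (fun e => hw (Additive.toMul.injective e))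
        (fun e => hz' (Additive.toMul.injective e))
      have : z = lin g w := by rw [lin_apply, hgz]; rfl
      rw [this, ← Module.End.mul_apply, hcomm x hx (lin g) (hpow g hg), Module.End.mul_apply,
        hxw, map_zero, LinearMap.zero_apply]
  letI : CommRing K := { (inferInstance : Ring K) with
    mul_comm := fun x y => Subtype.ext (hcomm x.1 x.2 y.1 y.2) }
  haveI : Nontrivial (Additive V) := by
    haveI : Nontrivial V := Finite.one_lt_card_iff_nontrivial.1
      (hd ▸ Nat.one_lt_two_pow (by omega))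
    infer_instance
  haveI : NoZeroDivisors K := ⟨fun {x y} hxy => by
    by_cases hy : y = 0
    · exact Or.inr hy
    obtain ⟨z, hz'⟩ : ∃ z, (y : Module.End (ZMod 2) (Additive V)) z ≠ 0 := by
      by_contra hc
      push Not at hc
      exact hy (Subtype.ext (LinearMap.ext hc))
    refine Or.inl (Subtype.ext (hzero x x.2 _ hz' ?_))
    exact DFunLike.congr_fun (congrArg Subtype.val hxy) z⟩
  haveI : Nontrivial K := ⟨⟨1, 0, fun h => by
    obtain ⟨z, hz'⟩ := exists_ne (0 : Additive V)
    exact hz' (DFunLike.congr_fun (congrArg Subtype.val h) z)⟩⟩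
  haveI : IsDomain K := NoZeroDivisors.to_isDomain K
  let P : (ZMod 2)[X] := LinearMap.charpoly f
  have hdeg : P.natDegree = d := by
    rw [LinearMap.charpoly_natDegree]
    have h1 := Module.natCard_eq_pow_finrank (K := ZMod 2) (V := Additive V)
    rw [Nat.card_zmod, show Nat.card (Additive V) = Nat.card V from rfl, hd] at h1
    exact (Nat.pow_right_injective le_rfl h1).symm
  have hroot : ∀ g : A, aeval (lin g * f * lin g⁻¹) P = 0 := by
    intro g
    have hgg : lin g⁻¹ * lin g = 1 := by rw [← map_mul, inv_mul_cancel, map_one]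
    have key : ∀ Q : (ZMod 2)[X],
        aeval (lin g * f * lin g⁻¹) Q = lin g * aeval f Q * lin g⁻¹ := by
      have hgg' : lin g * lin g⁻¹ = 1 := by rw [← map_mul, mul_inv_cancel, map_one]
      intro Q
      induction Q using Polynomial.induction_on' with
      | add p q hp hq => simp only [map_add, hp, hq, mul_add, add_mul]
      | monomial i c =>
        have hp : (lin g * f * lin g⁻¹) ^ i = lin g * f ^ i * lin g⁻¹ := by
          induction i with
          | zero => rw [pow_zero, pow_zero, mul_one, hgg']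
          | succ i ih =>
            rw [pow_succ, ih, pow_succ]
            simp only [mul_assoc]
            rw [← mul_assoc (lin g⁻¹) (lin g), hgg, one_mul]
        rw [aeval_monomial, aeval_monomial, hp, ← mul_assoc, ← mul_assoc, Algebra.commutes,
          mul_assoc (lin g)]
    rw [key, LinearMap.aeval_self_charpoly, mul_zero, zero_mul]
  let φ : ι → K := fun i => ⟨lin (a i * k * (a i)⁻¹), hpow _ (hz i)⟩
  have hφ : Function.Injective φ := fun i j h => hinj (lin_inj (congrArg Subtype.val h))
  have hsub : (Finset.univ.image φ).val ⊆ (P.map (algebraMap (ZMod 2) K)).roots := by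
    intro x hx
    obtain ⟨i, -, rfl⟩ := Finset.mem_image.1 hx
    rw [mem_roots ((LinearMap.charpoly_monic f).map _).ne_zero, IsRoot, eval_map_algebraMap]
    apply Subtype.ext
    rw [← Subalgebra.coe_val, ← aeval_algHom_apply]
    show aeval (lin (a i * k * (a i)⁻¹)) P = 0
    rw [map_mul, map_mul]
    exact hroot (a i)
  have h := card_le_degree_of_subset_roots hsub
  rw [Finset.card_image_of_injective _ hφ, Finset.card_univ, ← Nat.card_eq_fintype_card] at h
  exact hdeg ▸ h.trans natDegree_map_le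

end Lin

end Cfsg.Agent.H84.WardEven
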